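import Groth.Agent.FibConstr.Basic
import Groth.Agent.FibreND.Scheme
import Mathlib.RingTheory.Spectrum.Prime.Chevalley
import Mathlib.RingTheory.TensorProduct.MvPolynomial
import Mathlib.AlgebraicGeometry.Morphisms.UniversallyOpen
import Mathlib.AlgebraicGeometry.Fiber

/-!
# Loci of topological properties of constructible sets in the fibres

A property `P F A B` of two subsets of a topological space is a `FibProp` if it is insensitive to
open continuous surjections and to closed embeddings, is local, and behaves generically well in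
families.  The set of points over whose fibres it holds is then locally constructible.
-/

universe u

open AlgebraicGeometry CategoryTheory CategoryTheory.Limits Topology TopologicalSpace Set

namespace Groth.Agent.ConsFib

/-- The fibre of the underlying map. -/
abbrev Fib {X S : Scheme.{u}} (f : X ⟶ S) (s : S) : Type u := ↥(f.base ⁻¹' {s})

/-- The truth value of a topological property of two subsets in a fibre. -/
def fibP (P : ∀ (F : Type u) [TopologicalSpace F], Set F → Set F → Prop) {X S : Scheme.{u}} (f : X ⟶ S)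
    (A B : Set X) (s : S) : Prop :=
  P (Fib f s) (Subtype.val ⁻¹' A) (Subtype.val ⁻¹' B)

/-- See the module docstring. -/
structure FibProp (P : ∀ (F : Type u) [TopologicalSpace F], Set F → Set F → Prop) : Prop where
  preimage : ∀ {F G : Type u} [TopologicalSpace F] [TopologicalSpace G] (q : F → G), Continuous q → IsOpenMap q →
    Function.Surjective q → ∀ A B, P F (q ⁻¹' A) (q ⁻¹' B) ↔ P G A B
  embed : ∀ {F G : Type u} [TopologicalSpace F] [TopologicalSpace G] (q : F → G), IsClosedEmbedding q →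
    ∀ A B, P G (q '' A) (q '' B) ↔ P F A B
  isLocal : ∀ {F : Type u} [TopologicalSpace F] {ι : Type u} (U : ι → Set F), (∀ i, IsOpen (U i)) →
    ⋃ i, U i = univ → ∀ A B, P F A B ↔ ∀ i, P (U i) (Subtype.val ⁻¹' A) (Subtype.val ⁻¹' B)
  spread : ∀ {X S : Scheme.{u}} (f : X ⟶ S) [IrreducibleSpace S] [IsNoetherian S] [LocallyOfFiniteType f]
    [QuasiCompact f] (A B : Set X), IsConstructible A → IsConstructible B →
    ∃ V : S.Opens, (V : Set S).Nonempty ∧ ((∀ s ∈ V, fibP P f A B s) ∨ ∀ s ∈ V, ¬ fibP P f A B s)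

variable {P : ∀ (F : Type u) [TopologicalSpace F], Set F → Set F → Prop}

theorem FibProp.homeo (hP : FibProp P) {F G : Type u} [TopologicalSpace F] [TopologicalSpace G] (e : F ≃ₜ G)
    (A B : Set G) : P F (e ⁻¹' A) (e ⁻¹' B) ↔ P G A B :=
  hP.preimage e e.continuous e.isOpenMap e.surjective A B

/-- In a cartesian square the map of fibres is an open surjection. -/
theorem exists_fibMap {X' S' X S : Scheme.{u}} {g' : X' ⟶ X} {f' : X' ⟶ S'} {f : X ⟶ S} {g : S' ⟶ S}
    (h : IsPullback g' f' f g) (y : S') :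
    ∃ q : Fib f' y → Fib f (g y), Continuous q ∧ IsOpenMap q ∧ Function.Surjective q ∧ ∀ z, (q z).1 = g' z.1 := by
  have hp := isPullback_fiberToSpecResidueField_of_isPullback h y
  let m := pullback.map f' (S'.fromSpecResidueField y) f (S.fromSpecResidueField (g y)) g'
    (Spec.map (g.residueFieldMap y)) g h.w.symm (by simp)
  have ho : UniversallyOpen m :=
    MorphismProperty.of_isPullback hp.flip (inferInstance : UniversallyOpen (Spec.map (g.residueFieldMap y)))
  have hs : Surjective m := by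
    have : Surjective (Spec.map (g.residueFieldMap y)) :=
      ⟨fun b => ⟨IsLocalRing.closedPoint _, Subsingleton.elim _ _⟩⟩
    exact MorphismProperty.of_isPullback hp.flip this
  refine ⟨fun z => f.fiberHomeo (g y) (m ((f'.fiberHomeo y).symm z)),
    (f.fiberHomeo _).continuous.comp (m.continuous.comp (Homeomorph.continuous _)),
    (f.fiberHomeo _).isOpenMap.comp (m.isOpenMap.comp (Homeomorph.isOpenMap _)),
    (f.fiberHomeo _).surjective.comp (hs.surj.comp (Homeomorph.surjective _)), fun z => ?_⟩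
  show f.fiberι (g y) (m ((f'.fiberHomeo y).symm z)) = _
  have hm : m ≫ f.fiberι (g y) = f'.fiberι y ≫ g' := pullback.lift_fst _ _ _
  refine (congrArg (fun k : f'.fiber y ⟶ X => k ((f'.fiberHomeo y).symm z)) hm).trans ?_
  exact congrArg (fun w => g' w) (f'.fiberι_fiberHomeo_symm y z)

theorem fibP_bc (hP : FibProp P) {X' S' X S : Scheme.{u}} {g' : X' ⟶ X} {f' : X' ⟶ S'} {f : X ⟶ S} {g : S' ⟶ S}
    (h : IsPullback g' f' f g) (A B : Set X) (y : S') :
    fibP P f' (g' ⁻¹' A) (g' ⁻¹' B) y ↔ fibP P f A B (g y) := by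
  obtain ⟨q, hc, ho, hs, hq⟩ := exists_fibMap h y
  have e : ∀ T : Set X, (Subtype.val ⁻¹' (g' ⁻¹' T) : Set (Fib f' y)) = q ⁻¹' (Subtype.val ⁻¹' T) := fun T => by
    ext z
    show g' z.1 ∈ T ↔ (q z).1 ∈ T
    rw [hq]
  rw [fibP, e A, e B]
  exact hP.preimage q hc ho hs _ _

theorem fibP_closedEmbedding (hP : FibProp P) {X X' S : Scheme.{u}} (i : X ⟶ X') [IsClosedImmersion i]
    (f : X ⟶ S) (f' : X' ⟶ S) (h : i ≫ f' = f) (A B : Set X) (s : S) :
    fibP P f' (i '' A) (i '' B) s ↔ fibP P f A B s := by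
  subst h
  let q : Fib (i ≫ f') s → Fib f' s := fun z => ⟨i z.1, by
    show f' (i z.1) = s
    rw [← Scheme.Hom.comp_apply]
    exact z.2⟩
  have hq : IsClosedEmbedding q := by
    have h1 : IsClosedEmbedding ((f'.base ⁻¹' {s}).restrictPreimage i) :=
      i.isClosedEmbedding.restrictPreimage _
    exact h1
  have e : ∀ T : Set X, (Subtype.val ⁻¹' (i '' T) : Set (Fib f' s)) = q '' (Subtype.val ⁻¹' T) := fun T => by
    ext z
    constructor
    · rintro ⟨x, hx, hxz⟩
      refine ⟨⟨x, ?_⟩, hx, Subtype.ext hxz⟩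
      have := z.2
      simpa [← hxz] using this
    · rintro ⟨x, hx, rfl⟩
      exact ⟨x.1, hx, rfl⟩
  rw [fibP, e A, e B]
  exact hP.embed q hq _ _

theorem isConstructible_noetherian (hP : FibProp P) {X S : Scheme.{u}} (f : X ⟶ S) [IsNoetherian S]
    [LocallyOfFiniteType f] [QuasiCompact f] {A B : Set X} (hA : IsConstructible A) (hB : IsConstructible B) :
    IsConstructible {s : S | fibP P f A B s} := by
  refine FibConstr.isConstructible_of_generic _ fun Z hZ hirr => ?_
  let I := Scheme.IdealSheafData.vanishingIdeal (⟨Z, hZ⟩ : Closeds S)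
  let i := I.subschemeι
  have hri : Set.range i = Z := by
    rw [Scheme.IdealSheafData.range_subschemeι, Scheme.IdealSheafData.coe_support_vanishingIdeal]
    rfl
  have : IsNoetherian I.subscheme :=
    { __ := LocallyOfFiniteType.isLocallyNoetherian i
      __ := QuasiCompact.compactSpace_of_compactSpace i }
  have : IrreducibleSpace I.subscheme := by
    let e : I.subscheme ≃ₜ (Z : Set S) := i.isClosedEmbedding.isEmbedding.toHomeomorph.trans (.setCongr hri)
    have : IrreducibleSpace (Z : Set S) := Subtype.irreducibleSpace hirr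
    exact e.symm.surjective.irreducibleSpace e.symm.continuous
  obtain ⟨V, ⟨v, hv⟩, hVΦ⟩ := hP.spread (pullback.snd f i) (pullback.fst f i ⁻¹' A) (pullback.fst f i ⁻¹' B)
    ((pullback.fst f i).isConstructible_preimage hA) ((pullback.fst f i).isConstructible_preimage hB)
  obtain ⟨U, hU, hUV⟩ := i.isClosedEmbedding.isEmbedding.isOpen_iff.1 V.2
  have hbc := fibP_bc hP (IsPullback.of_hasPullback f i) A B
  refine ⟨U, hU, ⟨i v, hri.le ⟨v, rfl⟩, hUV.ge hv⟩, hVΦ.imp (fun h => ?_) fun h => ?_⟩
  · rintro z ⟨hzZ, hzU⟩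
    obtain ⟨w, rfl⟩ := hri.ge hzZ
    exact (hbc w).1 (h w (hUV.le hzU))
  · rw [Set.disjoint_left]
    rintro z ⟨hzZ, hzU⟩ hz
    obtain ⟨w, rfl⟩ := hri.ge hzZ
    exact h w (hUV.le hzU) ((hbc w).2 hz)

open PrimeSpectrum MvPolynomial in
attribute [local instance] MvPolynomial.algebraMvPolynomial in
theorem isConstructible_mvPolynomial (hP : FibProp P) (R : Type u) [CommRing R] (n : ℕ)
    {A B : Set (Spec (CommRingCat.of (MvPolynomial (Fin n) R)))} (hA : IsConstructible A) (hB : IsConstructible B) :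
    IsLocallyConstructible {s : Spec (CommRingCat.of R) |
      fibP P (Spec.map (CommRingCat.ofHom (algebraMap R (MvPolynomial (Fin n) R)))) A B s} := by
  classical
  obtain ⟨SA, hSA⟩ := exists_constructibleSetData_iff.2 hA
  obtain ⟨SB, hSB⟩ := exists_constructibleSetData_iff.2 hB
  let polys : Finset (MvPolynomial (Fin n) R) :=
    (SA ∪ SB).biUnion fun C => insert C.f (Finset.univ.image C.g)
  let R0 : Subalgebra ℤ R := Algebra.adjoin ℤ ((polys.biUnion fun p => p.coeffs : Finset R) : Set R)
  haveI : Algebra.FiniteType ℤ R0 := (Subalgebra.fg_iff_finiteType _).1 ⟨_, rfl⟩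
  haveI : IsNoetherianRing R0 := Algebra.FiniteType.isNoetherianRing ℤ R0
  let m : MvPolynomial (Fin n) R0 →+* MvPolynomial (Fin n) R := algebraMap _ _
  have hm : ∀ p ∈ polys, p ∈ Set.range m := fun p hp => by
    show p ∈ Set.range (MvPolynomial.map (algebraMap R0 R))
    rw [mem_range_map_iff_coeffs_subset]
    intro c hc
    exact ⟨⟨c, Algebra.subset_adjoin (Finset.mem_coe.2 (Finset.mem_biUnion.2 ⟨p, hp, hc⟩))⟩, rfl⟩
  have hdata : ∀ C ∈ SA ∪ SB, ∃ C₀ : BasicConstructibleSetData (MvPolynomial (Fin n) R0), C₀.map m = C := by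
    intro C hC
    have h1 : ∀ p ∈ insert C.f (Finset.univ.image C.g), p ∈ Set.range m := fun p hp =>
      hm p (Finset.mem_biUnion.2 ⟨C, hC, hp⟩)
    obtain ⟨f₀, hf₀⟩ := h1 C.f (Finset.mem_insert_self _ _)
    choose g₀ hg₀ using fun i => h1 (C.g i) (Finset.mem_insert_of_mem (Finset.mem_image_of_mem _ (Finset.mem_univ i)))
    refine ⟨⟨f₀, C.n, g₀⟩, ?_⟩
    obtain ⟨cf, cn, cg⟩ := C
    simp only [BasicConstructibleSetData.map, BasicConstructibleSetData.mk.injEq, heq_eq_eq, true_and]
    exact ⟨hf₀, funext hg₀⟩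
  have hsets : ∀ T : Finset (BasicConstructibleSetData (MvPolynomial (Fin n) R)), T ⊆ SA ∪ SB →
      ∃ A₀ : Set (Spec (CommRingCat.of (MvPolynomial (Fin n) R0))), IsConstructible A₀ ∧
        Spec.map (CommRingCat.ofHom m) ⁻¹' A₀ = ConstructibleSetData.toSet T := by
    intro T hT
    choose c hc using hdata
    let T₀ : ConstructibleSetData (MvPolynomial (Fin n) R0) := T.attach.image fun C => c C.1 (hT C.2)
    refine ⟨T₀.toSet, ConstructibleSetData.isConstructible_toSet _, ?_⟩
    refine (ConstructibleSetData.toSet_map m T₀).symm.trans (congrArg _ ?_)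
    ext C
    simp only [ConstructibleSetData.map, T₀, Finset.image_image, Finset.mem_image, Finset.mem_attach, true_and,
      Function.comp_apply, Subtype.exists]
    constructor
    · rintro ⟨D, hD, rfl⟩; rw [hc]; exact hD
    · intro hC; exact ⟨C, hC, hc _ _⟩
  obtain ⟨A₀, hA₀, hA₀'⟩ := hsets SA Finset.subset_union_left
  obtain ⟨B₀, hB₀, hB₀'⟩ := hsets SB Finset.subset_union_right
  let gR : CommRingCat.of R0 ⟶ CommRingCat.of R := CommRingCat.ofHom (algebraMap R0 R)
  let fR := CommRingCat.ofHom (algebraMap R (MvPolynomial (Fin n) R))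
  let f0 := CommRingCat.ofHom (algebraMap R0 (MvPolynomial (Fin n) R0))
  have hsq : IsPullback (Spec.map (CommRingCat.ofHom m)) (Spec.map fR) (Spec.map f0) (Spec.map gR) :=
    (isPullback_SpecMap_of_isPushout _ _ _ _
      (CommRingCat.isPushout_of_isPushout R0 R (MvPolynomial (Fin n) R0) (MvPolynomial (Fin n) R))).flip
  haveI : IsNoetherianRing ↑(CommRingCat.of R0) := ‹_›
  haveI : LocallyOfFiniteType (Spec.map f0) := by
    rw [HasRingHomProperty.Spec_iff (P := @LocallyOfFiniteType)]
    exact RingHom.finiteType_algebraMap.2 inferInstance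
  have h0 := isConstructible_noetherian hP (Spec.map f0) hA₀ hB₀
  have e : {s : Spec (CommRingCat.of R) | fibP P (Spec.map fR) A B s} =
      Spec.map gR ⁻¹' {t | fibP P (Spec.map f0) A₀ B₀ t} := Set.ext fun y => by
    show fibP P (Spec.map fR) A B y ↔ _
    rw [← hSA, ← hSB, ← hA₀', ← hB₀']
    exact fibP_bc hP hsq A₀ B₀ y
  exact e ▸ ProConsLib.isLocallyConstructible_preimage _ h0.isLocallyConstructible

theorem isLocallyConstructible_spec (hP : FibProp P) {R C : CommRingCat.{u}} (φ : R ⟶ C)
    (hφ : φ.hom.FinitePresentation) {A B : Set (Spec C)} (hA : IsConstructible A) (hB : IsConstructible B) :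
    IsLocallyConstructible {s : Spec R | fibP P (Spec.map φ) A B s} := by
  algebraize [φ.hom]
  obtain ⟨n, π, hπ, hker⟩ := Algebra.FinitePresentation.out (R := R) (A := C)
  let i := Spec.map (CommRingCat.ofHom π.toRingHom : CommRingCat.of (MvPolynomial (Fin n) R) ⟶ C)
  haveI : IsClosedImmersion i := IsClosedImmersion.spec_of_surjective _ hπ
  have hfp : π.toRingHom.FinitePresentation := RingHom.FinitePresentation.of_surjective _ hπ hker
  have himg : ∀ T : Set (Spec C), IsConstructible T → IsConstructible (i '' T) := fun T hT =>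
    PrimeSpectrum.isConstructible_comap_image hfp hT
  have hfac : i ≫ Spec.map (CommRingCat.ofHom (algebraMap R (MvPolynomial (Fin n) R))) = Spec.map φ := by
    rw [← Spec.map_comp]
    congr 1
    ext r
    exact π.commutes r
  have e : {s : Spec R | fibP P (Spec.map φ) A B s} = _ :=
    Set.ext fun s => (fibP_closedEmbedding hP i _ _ hfac A B s).symm
  exact e ▸ isConstructible_mvPolynomial hP R n (himg A hA) (himg B hB)

theorem isLocallyConstructible_affine (hP : FibProp P) {X S : Scheme.{u}} (f : X ⟶ S) [IsAffine X] [IsAffine S]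
    [LocallyOfFinitePresentation f] {A B : Set X} (hA : IsLocallyConstructible A) (hB : IsLocallyConstructible B) :
    IsLocallyConstructible {s : S | fibP P f A B s} := by
  have hsq : IsPullback X.isoSpec.hom f (Spec.map f.appTop) S.isoSpec.hom :=
    IsPullback.of_horiz_isIso ⟨Scheme.isoSpec_hom_naturality f⟩
  have hfp : f.appTop.hom.FinitePresentation :=
    (HasRingHomProperty.iff_of_isAffine (P := @LocallyOfFinitePresentation) (f := f)).mp ‹_›
  have key : ∀ T : Set X, IsLocallyConstructible T →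
      IsConstructible (X.isoSpec.inv ⁻¹' T) ∧ X.isoSpec.hom ⁻¹' (X.isoSpec.inv ⁻¹' T) = T := fun T hT => by
    refine ⟨(ProConsLib.isLocallyConstructible_preimage _ hT).isConstructible, ?_⟩
    ext x
    show X.isoSpec.inv (X.isoSpec.hom x) ∈ T ↔ _
    rw [← Scheme.Hom.comp_apply, Iso.hom_inv_id]
    rfl
  have h := isLocallyConstructible_spec hP _ hfp (key A hA).1 (key B hB).1
  have e : {s : S | fibP P f A B s} = S.isoSpec.hom ⁻¹'
      {s | fibP P (Spec.map f.appTop) (X.isoSpec.inv ⁻¹' A) (X.isoSpec.inv ⁻¹' B) s} := Set.ext fun y => by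
    show fibP P f A B y ↔ _
    have := fibP_bc hP hsq (X.isoSpec.inv ⁻¹' A) (X.isoSpec.inv ⁻¹' B) y
    rw [(key A hA).2, (key B hB).2] at this
    exact this
  exact e ▸ ProConsLib.isLocallyConstructible_preimage _ h

/-- The fibre locus of a `FibProp` is locally constructible. -/
theorem isLocallyConstructible (hP : FibProp P) {X S : Scheme.{u}} (f : X ⟶ S) [LocallyOfFinitePresentation f]
    [QuasiCompact f] {A B : Set X} (hA : IsLocallyConstructible A) (hB : IsLocallyConstructible B) :
    IsLocallyConstructible {s : S | fibP P f A B s} := by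
  refine IsLocallyConstructible.of_isOpenCover (U := fun V : S.affineOpens => (V : S.Opens))
    (iSup_affineOpens_eq_top S) fun V => ?_
  obtain ⟨t, ht, hcov⟩ := FibreND.exists_finite_cover f V.2
  have hres : ∀ (U : t), IsLocallyConstructible
      {s : (V : S.Opens) | fibP P (f.resLE V U.1.1 (ht _ U.2)) (U.1.1.ι ⁻¹' A) (U.1.1.ι ⁻¹' B) s} := fun U => by
    haveI : IsAffine (U.1.1 : Scheme.{u}) := U.1.2
    haveI : IsAffine ((V : S.Opens) : Scheme.{u}) := V.2
    haveI : LocallyOfFinitePresentation (f.resLE V U.1.1 (ht _ U.2)) := by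
      delta Scheme.Hom.resLE; infer_instance
    exact isLocallyConstructible_affine hP (f.resLE V U.1.1 (ht _ U.2)) (ProConsLib.isLocallyConstructible_preimage _ hA)
      (ProConsLib.isLocallyConstructible_preimage _ hB)
  have hiff : ∀ s : (V : S.Opens), fibP P f A B s.1 ↔
      ∀ U : t, fibP P (f.resLE V U.1.1 (ht _ U.2)) (U.1.1.ι ⁻¹' A) (U.1.1.ι ⁻¹' B) s := by
    intro s
    rw [fibP, hP.isLocal (fun U : t => (Subtype.val ⁻¹' (U.1.1 : Set X) : Set (Fib f s.1)))
      (fun U => U.1.1.2.preimage continuous_subtype_val) (Set.eq_univ_of_forall fun z => by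
        obtain ⟨U, hU, hzU⟩ := hcov z.1 (show f z.1 ∈ (V : S.Opens) from (z.2 : f z.1 = s.1).symm ▸ s.2)
        exact Set.mem_iUnion.2 ⟨⟨U, hU⟩, hzU⟩)]
    refine forall_congr' fun U => ?_
    have hres : ∀ w : (U.1.1 : Scheme.{u}), (f.resLE V U.1.1 (ht _ U.2) w).1 = f w.1 := fun w =>
      congrArg (fun k : (U.1.1 : Scheme.{u}) ⟶ S => k w) (Scheme.Hom.resLE_comp_ι (e := ht _ U.2))
    have hmem : ∀ w : Fib (f.resLE V U.1.1 (ht _ U.2)) s, U.1.1.ι w.1 ∈ f.base ⁻¹' {s.1} := fun w => by
      show f w.1.1 = s.1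
      rw [← hres, show f.resLE V U.1.1 (ht _ U.2) w.1 = s from w.2]
    let e : Fib (f.resLE V U.1.1 (ht _ U.2)) s ≃ₜ ↥(Subtype.val ⁻¹' (U.1.1 : Set X) : Set (Fib f s.1)) :=
      { toFun := fun w => ⟨⟨U.1.1.ι w.1, hmem w⟩, w.1.2⟩
        invFun := fun z => ⟨⟨z.1.1, z.2⟩, Subtype.ext ((hres _).trans z.1.2)⟩
        left_inv := fun _ => rfl
        right_inv := fun _ => rfl
        continuous_toFun := ((U.1.1.ι.continuous.comp continuous_subtype_val).subtype_mk hmem).subtype_mk fun w => w.1.2
        continuous_invFun := ((continuous_subtype_val.comp continuous_subtype_val).subtype_mk _).subtype_mk _ }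
    exact (hP.homeo e _ _).symm
  have e : (Subtype.val ⁻¹' {s : S | fibP P f A B s} : Set (V : S.Opens)) = ⋂ U : t, _ :=
    Set.ext fun s => (hiff s).trans (Set.mem_iInter (s := fun U : t =>
      {s : (V : S.Opens) | fibP P (f.resLE V U.1.1 (ht _ U.2)) (U.1.1.ι ⁻¹' A) (U.1.1.ι ⁻¹' B) s})).symm
  exact e ▸ IsLocallyConstructible.iInter hres

end Groth.Agent.ConsFib
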