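import Groth.Agent.ConsFib.Imm
import Groth.Agent.ProConsLib.Realize

/-!
# Flat, open immersion, immersion, closed immersion and iso fibre maps: general bases
-/

universe u

open AlgebraicGeometry CategoryTheory CategoryTheory.Limits Topology TopologicalSpace Set

namespace Groth.Agent.ConsFib

/-- `A` avoids the closure of `B`. -/
abbrev PSep (F : Type u) [TopologicalSpace F] (A B : Set F) : Prop := Disjoint A (closure B)

theorem fibProp_sep : FibProp.{u} PSep where
  preimage q hc ho hs A B := by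
    unfold PSep
    rw [← ho.preimage_closure_eq_closure_preimage hc]
    refine ⟨fun h => Set.disjoint_left.2 fun y hy hy' => ?_, fun h => h.preimage q⟩
    obtain ⟨x, rfl⟩ := hs y
    exact Set.disjoint_left.1 h hy hy'
  embed q hq A B := by
    unfold PSep
    rw [hq.closure_image_eq, Set.disjoint_image_iff hq.injective]
  isLocal U hU hcov A B := by
    refine ⟨fun h i => ?_, fun h => Set.disjoint_left.2 fun x hx hx' => ?_⟩
    · show Disjoint _ _
      rw [← (hU i).isOpenMap_subtype_val.preimage_closure_eq_closure_preimage continuous_subtype_val]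
      exact h.preimage _
    · obtain ⟨i, hi⟩ := mem_iUnion.1 (hcov.ge (mem_univ x))
      refine Set.disjoint_left.1 (h i) (show (⟨x, hi⟩ : U i) ∈ Subtype.val ⁻¹' A from hx) ?_
      rw [← (hU i).isOpenMap_subtype_val.preimage_closure_eq_closure_preimage continuous_subtype_val]
      exact hx'
  spread {X S} f _ _ _ _ A B hA hB := by
    haveI := isNoetherian_source f
    obtain ⟨V, hV, hcl⟩ := exists_closure_eq f hB
    obtain ⟨W, hW, h⟩ := exists_empty_fib f (hA.inter (spread_dense.isConstructible_of_isClosed (isClosed_closure (s := B))))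
    refine ⟨V ⊓ W, inter_nonempty hV hW, h.imp (fun h s hs => ?_) fun h s hs hd => ?_⟩
    · show Disjoint _ _
      rw [hcl s hs.1]
      refine Set.disjoint_left.2 fun z hz hz' => h z.1 ⟨hz, hz'⟩ ((z.2 : f z.1 = s).symm ▸ hs.2)
    · obtain ⟨x, ⟨hxA, hxB⟩, hxs⟩ := h s hs.2
      refine Set.disjoint_left.1 hd (show (⟨x, hxs⟩ : Fib f s) ∈ Subtype.val ⁻¹' A from hxA) ?_
      rw [hcl s hs.1]
      exact hxB

/-- A set which is closed near each of its points is locally closed. -/
theorem isLocallyClosed_of_forall {F : Type u} [TopologicalSpace F] {A : Set F}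
    (h : ∀ y ∈ A, ∃ (W : Set F) (C : Set F), IsOpen W ∧ IsClosed C ∧ y ∈ W ∧ A ∩ W = C ∩ W) : IsLocallyClosed A := by
  choose W C hW hC hy he using h
  refine ⟨⋃ (y) (hy : y ∈ A), W y hy, closure A, isOpen_iUnion fun y => isOpen_iUnion fun h => hW y h,
    isClosed_closure, ?_⟩
  refine Subset.antisymm (fun z hz => ⟨mem_iUnion₂.2 ⟨z, hz, hy z hz⟩, subset_closure hz⟩) ?_
  rintro z ⟨hzW, hzA⟩
  obtain ⟨y, hyA, hzy⟩ := mem_iUnion₂.1 hzW
  have h1 : z ∈ closure (W y hyA ∩ A) := (hW y hyA).inter_closure ⟨hzy, hzA⟩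
  have h2 : z ∈ C y hyA := (hC y hyA).closure_subset_iff.2
    (fun w hw => ((he y hyA).le ⟨hw.2, hw.1⟩).1) h1
  exact ((he y hyA).ge ⟨h2, hzy⟩).1

section Pieces

variable {X Y S : Scheme.{u}} (f : X ⟶ Y) (g : Y ⟶ S) {V : Y.Opens} {U : X.Opens} (e : U ≤ f ⁻¹ᵁ V)

/-- The inclusion of the fibre of a piece. -/
noncomputable def pieceι (s : S) : (f.resLE V U e ≫ (V.ι ≫ g)).fiber s ⟶ (f ≫ g).fiber s :=
  pullback.lift ((f.resLE V U e ≫ (V.ι ≫ g)).fiberι s ≫ U.ι) ((f.resLE V U e ≫ (V.ι ≫ g)).fiberToSpecResidueField s)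
    (by
      have h := (f.resLE V U e ≫ (V.ι ≫ g)).fiber_fac s
      simpa only [Category.assoc, Scheme.Hom.resLE_comp_ι_assoc] using h)

theorem isPullback_pieceι (s : S) :
    IsPullback ((f.resLE V U e ≫ (V.ι ≫ g)).fiberι s) (pieceι f g e s) U.ι ((f ≫ g).fiberι s) := by
  refine IsPullback.of_bot (v₂₁ := (f ≫ g).fiberToSpecResidueField s) (v₂₂ := f ≫ g)
    (h₃₁ := S.fromSpecResidueField s) ?_ (pullback.lift_fst _ _ _).symm (IsPullback.of_hasPullback (f ≫ g) _)
  have e1 : pieceι f g e s ≫ (f ≫ g).fiberToSpecResidueField s = (f.resLE V U e ≫ (V.ι ≫ g)).fiberToSpecResidueField s :=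
    pullback.lift_snd _ _ _
  have e2 : U.ι ≫ f ≫ g = f.resLE V U e ≫ (V.ι ≫ g) := by rw [Scheme.Hom.resLE_comp_ι_assoc]
  rw [e1, e2]
  exact IsPullback.of_hasPullback _ _

instance (s : S) : IsOpenImmersion (pieceι f g e s) :=
  MorphismProperty.of_isPullback (isPullback_pieceι f g e s) (inferInstance : IsOpenImmersion U.ι)

/-- The inclusion of the target piece. -/
noncomputable abbrev targetι (V : Y.Opens) (s : S) : (V.ι ≫ g).fiber s ⟶ g.fiber s := fibreMor V.ι g s

instance (V : Y.Opens) (s : S) : IsOpenImmersion (targetι g V s) :=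
  MorphismProperty.of_isPullback (isPullback_fibreMor V.ι g s) (inferInstance : IsOpenImmersion V.ι)

theorem pieceι_comp (s : S) :
    pieceι f g e s ≫ fibreMor f g s = fibreMor (f.resLE V U e) (V.ι ≫ g) s ≫ targetι g V s := by
  rw [← cancel_mono (g.fiberι s)]
  calc (pieceι f g e s ≫ fibreMor f g s) ≫ g.fiberι s
      = (pieceι f g e s ≫ (f ≫ g).fiberι s) ≫ f := by
        rw [Category.assoc, Category.assoc, (isPullback_fibreMor f g s).w]
    _ = ((f.resLE V U e ≫ (V.ι ≫ g)).fiberι s ≫ U.ι) ≫ f := by rw [(isPullback_pieceι f g e s).w]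
    _ = ((f.resLE V U e ≫ (V.ι ≫ g)).fiberι s ≫ f.resLE V U e) ≫ V.ι := by
        rw [Category.assoc, Category.assoc]; exact congrArg _ (Scheme.Hom.resLE_comp_ι (e := e)).symm
    _ = fibreMor (f.resLE V U e) (V.ι ≫ g) s ≫ (V.ι ≫ g).fiberι s ≫ V.ι := by
        rw [(isPullback_fibreMor (f.resLE V U e) (V.ι ≫ g) s).w, Category.assoc]
    _ = (fibreMor (f.resLE V U e) (V.ι ≫ g) s ≫ targetι g V s) ≫ g.fiberι s := by
        rw [Category.assoc, (isPullback_fibreMor V.ι g s).w]

theorem range_pieceι (s : S) : Set.range (pieceι f g e s).base = (f ≫ g).fiberι s ⁻¹' (U : Set X) := by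
  rw [range_of_isPullback (isPullback_pieceι f g e s).flip, Scheme.Opens.range_ι]

end Pieces

/-- A finite cover of a morphism by affine pieces. -/
theorem exists_pieces {X Y : Scheme.{u}} (f : X ⟶ Y) [QuasiCompact f] [CompactSpace Y] :
    ∃ (ι : Type u) (_ : Finite ι) (V : ι → Y.Opens) (U : ι → X.Opens) (_ : ∀ i, U i ≤ f ⁻¹ᵁ V i),
      (∀ i, IsAffineOpen (V i)) ∧ (∀ i, IsAffineOpen (U i)) ∧ ∀ x, ∃ i, x ∈ U i := by
  classical
  obtain ⟨tY, htY⟩ := isCompact_univ.elim_finite_subcover (fun V : Y.affineOpens => ((V : Y.Opens) : Set Y))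
    (fun V => (V : Y.Opens).2) (fun y _ => by
      obtain ⟨_, ⟨V, hV, rfl⟩, hyV, -⟩ := Y.isBasis_affineOpens.exists_subset_of_mem_open (Set.mem_univ y) isOpen_univ
      exact mem_iUnion.2 ⟨⟨V, hV⟩, hyV⟩)
  choose tX htX hcov using fun V : tY => FibreND.exists_finite_cover f V.1.2
  refine ⟨Σ V : tY, ↥(tX V), inferInstance, fun i => i.1.1.1, fun i => i.2.1.1, fun i => htX i.1 _ i.2.2,
    fun i => i.1.1.2, fun i => i.2.1.2, fun x => ?_⟩
  obtain ⟨V, hV, hxV⟩ := mem_iUnion₂.1 (htY (mem_univ (f x)))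
  obtain ⟨U, hU, hxU⟩ := hcov ⟨V, hV⟩ x hxV
  exact ⟨⟨⟨V, hV⟩, ⟨U, hU⟩⟩, hxU⟩

section Affine

variable {X Y S : Scheme.{u}} (f : X ⟶ Y) (g : Y ⟶ S) [IsAffine S]
  [LocallyOfFinitePresentation g] [QuasiCompact g] [QuasiSeparated g]
  [LocallyOfFinitePresentation (f ≫ g)] [QuasiCompact (f ≫ g)] [QuasiSeparated (f ≫ g)]

omit [QuasiCompact g] [QuasiSeparated g] [QuasiCompact (f ≫ g)] [QuasiSeparated (f ≫ g)] in
theorem isLocallyConstructible_piece {P : MorphismProperty Scheme.{u}} (hP : MorSpreads P) {V : Y.Opens}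
    (hV : IsAffineOpen V) {U : X.Opens} (hU : IsAffineOpen U) (e : U ≤ f ⁻¹ᵁ V) :
    IsLocallyConstructible {s : S | P (fibreMor (f.resLE V U e) (V.ι ≫ g) s)} := by
  haveI : IsAffine (U : Scheme.{u}) := hU
  haveI : IsAffine (V : Scheme.{u}) := hV
  haveI : LocallyOfFinitePresentation (f.resLE V U e ≫ (V.ι ≫ g)) := by
    rw [Scheme.Hom.resLE_comp_ι_assoc]; infer_instance
  exact isLocallyConstructible_mor_affine hP _ _

theorem isLocallyConstructible_flat_affine : IsLocallyConstructible {s : S | Flat (fibreMor f g s)} := by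
  haveI : QuasiCompact f := MorphismProperty.of_postcomp (W := @QuasiCompact) (W' := @QuasiSeparated) f g ‹_› ‹_›
  haveI : CompactSpace Y := QuasiCompact.compactSpace_of_compactSpace g
  obtain ⟨ι, _, V, U, e, hV, hU, hcov⟩ := exists_pieces f
  have h : {s : S | Flat (fibreMor f g s)} = ⋂ i, {s : S | Flat (fibreMor (f.resLE (V i) (U i) (e i)) ((V i).ι ≫ g) s)} := by
    ext s
    rw [Set.mem_iInter]
    show Flat _ ↔ ∀ i, Flat _
    constructor
    · intro h i
      refine (Flat.iff_flat_stalkMap _).2 fun w => ?_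
      have h1 := Flat.stalkMap (pieceι f g (e i) s ≫ fibreMor f g s) w
      rw [pieceι_comp, Scheme.Hom.stalkMap_comp] at h1
      exact (RingHom.Flat.respectsIso.cancel_left_isIso _ _).1 h1
    · intro h
      refine (Flat.iff_flat_stalkMap _).2 fun z => ?_
      obtain ⟨i, hi⟩ := hcov ((f ≫ g).fiberι s z)
      obtain ⟨w, rfl⟩ := (range_pieceι f g (e i) s).ge hi
      haveI := h i
      have h1 := Flat.stalkMap (fibreMor (f.resLE (V i) (U i) (e i)) ((V i).ι ≫ g) s ≫ targetι g (V i) s) w
      rw [← pieceι_comp] at h1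
      exact (flat_stalk_comp_left (pieceι f g (e i) s) _ w).1 h1
  exact h ▸ IsLocallyConstructible.iInter fun i => isLocallyConstructible_piece f g morSpreads_flat (hV i) (hU i) (e i)

omit [IsAffine S] [LocallyOfFinitePresentation g] [QuasiCompact g] [QuasiSeparated g]
  [LocallyOfFinitePresentation (f ≫ g)] [QuasiCompact (f ≫ g)] [QuasiSeparated (f ≫ g)] in
/-- The image of a piece in a fibre. -/
theorem image_piece (U : X.Opens) (s : S) :
    fibreMor f g s '' ((f ≫ g).fiberι s ⁻¹' (U : Set X)) = g.fiberι s ⁻¹' (f.base '' (U : Set X)) := by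
  have hL : ∀ z, g.fiberι s (fibreMor f g s z) = f ((f ≫ g).fiberι s z) := fun z =>
    (congrArg (fun h : (f ≫ g).fiber s ⟶ Y => h z) (isPullback_fibreMor f g s).w).symm
  ext w
  constructor
  · rintro ⟨z, hz, rfl⟩
    exact ⟨_, hz, (hL z).symm⟩
  · rintro ⟨x, hx, hxw⟩
    obtain ⟨z, hz, hzw⟩ := Scheme.exists_preimage_of_isPullback (isPullback_fibreMor f g s) x w hxw
    exact ⟨z, show (f ≫ g).fiberι s z ∈ (U : Set X) from hz.symm ▸ hx, hzw⟩

theorem isLocallyConstructible_immersion_affine : IsLocallyConstructible {s : S | IsImmersion (fibreMor f g s)} := by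
  haveI : LocallyOfFinitePresentation f := AlgSpLib.locallyOfFinitePresentation_of_comp f g ‹_› inferInstance
  haveI : QuasiCompact f := MorphismProperty.of_postcomp (W := @QuasiCompact) (W' := @QuasiSeparated) f g ‹_› ‹_›
  haveI : CompactSpace Y := QuasiCompact.compactSpace_of_compactSpace g
  obtain ⟨ι, _, V, U, e, hV, hU, hcov⟩ := exists_pieces f
  let L := fun s => fibreMor f g s
  have hmono := isLocallyConstructible_mono f g
  have himg : ∀ i, IsLocallyConstructible (f.base '' (U i : Set X)) := fun i => by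
    haveI : QuasiSeparatedSpace X := quasiSeparatedSpace_of_quasiSeparated (f ≫ g)
    haveI : CompactSpace X := QuasiCompact.compactSpace_of_compactSpace f
    exact f.isLocallyConstructible_image (((QuasiSeparatedSpace.isRetrocompact_iff_isCompact (U i).2).2
      (hU i).isCompact).isConstructible (U i).2).isLocallyConstructible
  have hrf : IsLocallyConstructible (Set.range f.base) := by
    simpa using f.isLocallyConstructible_image (IsLocallyConstructible.univ (X := X))
  have h : {s : S | IsImmersion (fibreMor f g s)} = {s : S | Mono (fibreMor f g s)} ∩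
      ⋂ i, ({s : S | (@IsImmersion ⊓ @QuasiCompact : MorphismProperty Scheme.{u})
          (fibreMor (f.resLE (V i) (U i) (e i)) ((V i).ι ≫ g) s)} ∩
        {s : S | fibP PSep g (f.base '' (U i : Set X)) (Set.range f.base \ f.base '' (U i : Set X)) s}) := by
    ext s
    simp only [Set.mem_inter_iff, Set.mem_iInter]
    let eF := g.fiberHomeo s
    have hsep : ∀ i, fibP PSep g (f.base '' (U i : Set X)) (Set.range f.base \ f.base '' (U i : Set X)) s ↔
        Disjoint (L s '' ((f ≫ g).fiberι s ⁻¹' (U i : Set X)))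
          (closure (Set.range (L s).base \ L s '' ((f ≫ g).fiberι s ⁻¹' (U i : Set X)))) := by
      intro i
      rw [fibP, ← fibProp_sep.homeo eF, PSep, image_piece f g (U i) s]
      have hr : Set.range (L s).base = g.fiberι s ⁻¹' Set.range f.base :=
        range_of_isPullback (isPullback_fibreMor f g s).flip
      rw [hr]
      exact Iff.rfl
    constructor
    · intro hI
      haveI : IsImmersion (L s) := hI
      refine ⟨(inferInstance : Mono (L s)), fun i => ⟨⟨?_, ?_⟩, (hsep i).2 ?_⟩⟩
      · haveI : IsImmersion (fibreMor (f.resLE (V i) (U i) (e i)) ((V i).ι ≫ g) s ≫ targetι g (V i) s) := by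
          rw [← pieceι_comp]; infer_instance
        exact IsImmersion.of_comp _ (targetι g (V i) s)
      · haveI : IsAffine (U i : Scheme.{u}) := hU i
        haveI : IsAffine (V i : Scheme.{u}) := hV i
        exact MorphismProperty.of_isPullback (isPullback_fibreMor (f.resLE (V i) (U i) (e i)) ((V i).ι ≫ g) s) inferInstance
      · obtain ⟨W, hW, hWe⟩ := (L s).isEmbedding.isOpen_iff.1 ((U i).2.preimage ((f ≫ g).fiberι s).continuous)
        refine Set.disjoint_left.2 ?_
        rintro _ ⟨z, hz, rfl⟩ hcl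
        obtain ⟨w, hwW, ⟨z', rfl⟩, hz'⟩ := mem_closure_iff.1 hcl W hW (hWe.ge hz)
        exact hz' ⟨z', hWe.le hwW, rfl⟩
    · rintro ⟨hM, hp⟩
      haveI : Mono (L s) := hM
      haveI : LocallyOfFiniteType (L s) := MorphismProperty.of_isPullback (isPullback_fibreMor f g s) inferInstance
      haveI : UniversallyInjective (L s) := ((mono_iff (L s)).1 hM).2
      have hemb : ∀ i, IsImmersion (pieceι f g (e i) s ≫ L s) := fun i => by
        haveI : IsImmersion (fibreMor (f.resLE (V i) (U i) (e i)) ((V i).ι ≫ g) s) := (hp i).1.1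
        show IsImmersion (pieceι f g (e i) s ≫ fibreMor f g s)
        rw [pieceι_comp]; infer_instance
      have hR : ∀ i, Set.range (pieceι f g (e i) s ≫ L s).base =
          L s '' ((f ≫ g).fiberι s ⁻¹' (U i : Set X)) := fun i => by
        rw [Scheme.Hom.comp_base, TopCat.coe_comp, Set.range_comp, range_pieceι]
      have hopen : ∀ i, ∀ w ∈ Set.range (pieceι f g (e i) s ≫ L s).base, ∃ W : Set ↥(g.fiber s), IsOpen W ∧ w ∈ W ∧
          Set.range (L s).base ∩ W ⊆ Set.range (pieceι f g (e i) s ≫ L s).base := by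
        intro i w hw
        rw [hR] at hw ⊢
        refine ⟨(closure _)ᶜ, isClosed_closure.isOpen_compl, Set.disjoint_left.1 ((hsep i).1 (hp i).2) hw, ?_⟩
        rintro y ⟨hy, hyc⟩
        by_contra hn
        exact hyc (subset_closure ⟨hy, hn⟩)
      haveI : IsPreimmersion (L s) := by
        refine @IsPreimmersion.mk _ _ _ ⟨fun z => ?_⟩ ⟨?_, (L s).injective⟩
        swap
        · rw [isInducing_iff_nhds]
          intro z
          refine le_antisymm ((L s).continuous.continuousAt.le_comap) fun O hO => ?_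
          obtain ⟨O', hO'O, hO', hzO⟩ := mem_nhds_iff.1 hO
          obtain ⟨i, hi⟩ := hcov ((f ≫ g).fiberι s z)
          obtain ⟨w, rfl⟩ := (range_pieceι f g (e i) s).ge hi
          haveI := hemb i
          obtain ⟨W, hW, hWe⟩ := (pieceι f g (e i) s ≫ L s).isEmbedding.isOpen_iff.1
            (hO'.preimage (pieceι f g (e i) s).continuous)
          obtain ⟨W', hW', hwW', hW'r⟩ := hopen i _ ⟨w, rfl⟩
          refine Filter.mem_comap.2 ⟨W ∩ W', (hW.inter hW').mem_nhds ⟨?_, ?_⟩, ?_⟩
          · have := hWe.ge hzO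
            simpa using this
          · simpa using hwW'
          · rintro v ⟨hvW, hvW'⟩
            obtain ⟨w', hw'⟩ := hW'r ⟨⟨v, rfl⟩, hvW'⟩
            rw [Scheme.Hom.comp_apply] at hw'
            obtain rfl := (L s).injective hw'
            refine hO'O (hWe.le (show (pieceι f g (e i) s ≫ L s) w' ∈ W from ?_))
            rw [Scheme.Hom.comp_apply]
            exact hvW
        · obtain ⟨i, hi⟩ := hcov ((f ≫ g).fiberι s z)
          obtain ⟨w, rfl⟩ := (range_pieceι f g (e i) s).ge hi
          haveI := hemb i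
          have h1 := (pieceι f g (e i) s ≫ L s).stalkMap_surjective w
          rw [Scheme.Hom.stalkMap_comp] at h1
          intro b
          obtain ⟨a, ha⟩ := h1 ((pieceι f g (e i) s).stalkMap w b)
          exact ⟨a, (ConcreteCategory.bijective_of_isIso ((pieceι f g (e i) s).stalkMap w)).1 ha⟩
      refine ⟨isLocallyClosed_of_forall fun y hy => ?_⟩
      obtain ⟨z, rfl⟩ := hy
      obtain ⟨i, hi⟩ := hcov ((f ≫ g).fiberι s z)
      obtain ⟨w, rfl⟩ := (range_pieceι f g (e i) s).ge hi
      haveI := hemb i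
      obtain ⟨W, C, hW, hC, hWC⟩ := (pieceι f g (e i) s ≫ L s).isLocallyClosed_range
      obtain ⟨W', hW', hwW', hW'r⟩ := hopen i _ ⟨w, rfl⟩
      refine ⟨W ∩ W', C, hW.inter hW', hC, ⟨?_, ?_⟩, ?_⟩
      · have := (hWC.le ⟨w, rfl⟩).1
        simpa using this
      · simpa using hwW'
      · ext v
        constructor
        · rintro ⟨hv, hvW, hvW'⟩
          exact ⟨(hWC.le (hW'r ⟨hv, hvW'⟩)).2, hvW, hvW'⟩
        · rintro ⟨hvC, hvW, hvW'⟩
          obtain ⟨w', rfl⟩ := hWC.ge ⟨hvW, hvC⟩
          exact ⟨⟨_, (Scheme.Hom.comp_apply _ _ w').symm⟩, hvW, hvW'⟩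
  rw [h]
  exact hmono.inter (IsLocallyConstructible.iInter fun i =>
    (isLocallyConstructible_piece f g morSpreads_immersion (hV i) (hU i) (e i)).inter
      (isLocallyConstructible fibProp_sep g (himg i) (hrf.inter (FibConstr.isLocallyConstructible_compl (himg i)))))

end Affine

section General

variable {X Y S : Scheme.{u}} (f : X ⟶ Y) (g : Y ⟶ S)
  [LocallyOfFinitePresentation g] [QuasiCompact g] [QuasiSeparated g]
  [LocallyOfFinitePresentation (f ≫ g)] [QuasiCompact (f ≫ g)] [QuasiSeparated (f ≫ g)]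

/-- Flatness of the fibre maps is a locally constructible condition. -/
theorem isLocallyConstructible_flat : IsLocallyConstructible {s : S | Flat (fibreMor f g s)} := by
  refine IsLocallyConstructible.of_isOpenCover (U := fun W : S.affineOpens => (W : S.Opens))
    (iSup_affineOpens_eq_top S) fun W => ?_
  haveI : IsAffine ((W : S.Opens) : Scheme.{u}) := W.2
  haveI := AlgSpLib.flat_descendsAlong.{u}
  haveI : LocallyOfFinitePresentation (f ∣_ (g ⁻¹ᵁ (W : S.Opens)) ≫ g ∣_ (W : S.Opens)) := by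
    rw [← morphismRestrict_comp]; exact IsZariskiLocalAtTarget.restrict ‹LocallyOfFinitePresentation (f ≫ g)› _
  haveI : QuasiCompact (f ∣_ (g ⁻¹ᵁ (W : S.Opens)) ≫ g ∣_ (W : S.Opens)) := by
    rw [← morphismRestrict_comp]; exact IsZariskiLocalAtTarget.restrict ‹QuasiCompact (f ≫ g)› _
  haveI : QuasiSeparated (f ∣_ (g ⁻¹ᵁ (W : S.Opens)) ≫ g ∣_ (W : S.Opens)) := by
    rw [← morphismRestrict_comp]; exact IsZariskiLocalAtTarget.restrict ‹QuasiSeparated (f ≫ g)› _
  haveI : LocallyOfFinitePresentation (g ∣_ (W : S.Opens)) := IsZariskiLocalAtTarget.restrict ‹_› _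
  haveI : QuasiCompact (g ∣_ (W : S.Opens)) := IsZariskiLocalAtTarget.restrict ‹_› _
  haveI : QuasiSeparated (g ∣_ (W : S.Opens)) := IsZariskiLocalAtTarget.restrict ‹_› _
  have e : (Subtype.val ⁻¹' {s : S | Flat (fibreMor f g s)} : Set (W : S.Opens)) =
      {s : (W : S.Opens) | Flat (fibreMor (f ∣_ (g ⁻¹ᵁ (W : S.Opens))) (g ∣_ (W : S.Opens)) s)} :=
    Set.ext fun s => (fibreMor_bc' (P := @Flat) (isPullback_morphismRestrict g (W : S.Opens)).flip
      (isPullback_morphismRestrict f (g ⁻¹ᵁ (W : S.Opens))).flip s).symm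
  exact e ▸ isLocallyConstructible_flat_affine (f ∣_ (g ⁻¹ᵁ (W : S.Opens))) (g ∣_ (W : S.Opens))

/-- Being an immersion is a locally constructible condition on the fibre maps. -/
theorem isLocallyConstructible_immersion : IsLocallyConstructible {s : S | IsImmersion (fibreMor f g s)} := by
  refine IsLocallyConstructible.of_isOpenCover (U := fun W : S.affineOpens => (W : S.Opens))
    (iSup_affineOpens_eq_top S) fun W => ?_
  haveI : IsAffine ((W : S.Opens) : Scheme.{u}) := W.2
  haveI := ImmDescent.qcImmersion_descendsAlong.{u}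
  haveI : LocallyOfFinitePresentation (f ∣_ (g ⁻¹ᵁ (W : S.Opens)) ≫ g ∣_ (W : S.Opens)) := by
    rw [← morphismRestrict_comp]; exact IsZariskiLocalAtTarget.restrict ‹LocallyOfFinitePresentation (f ≫ g)› _
  haveI : QuasiCompact (f ∣_ (g ⁻¹ᵁ (W : S.Opens)) ≫ g ∣_ (W : S.Opens)) := by
    rw [← morphismRestrict_comp]; exact IsZariskiLocalAtTarget.restrict ‹QuasiCompact (f ≫ g)› _
  haveI : QuasiSeparated (f ∣_ (g ⁻¹ᵁ (W : S.Opens)) ≫ g ∣_ (W : S.Opens)) := by
    rw [← morphismRestrict_comp]; exact IsZariskiLocalAtTarget.restrict ‹QuasiSeparated (f ≫ g)› _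
  haveI : LocallyOfFinitePresentation (g ∣_ (W : S.Opens)) := IsZariskiLocalAtTarget.restrict ‹_› _
  haveI : QuasiCompact (g ∣_ (W : S.Opens)) := IsZariskiLocalAtTarget.restrict ‹_› _
  haveI : QuasiSeparated (g ∣_ (W : S.Opens)) := IsZariskiLocalAtTarget.restrict ‹_› _
  haveI : QuasiCompact f := MorphismProperty.of_postcomp (W := @QuasiCompact) (W' := @QuasiSeparated) f g ‹_› ‹_›
  have e : (Subtype.val ⁻¹' {s : S | IsImmersion (fibreMor f g s)} : Set (W : S.Opens)) =
      {s : (W : S.Opens) | IsImmersion (fibreMor (f ∣_ (g ⁻¹ᵁ (W : S.Opens))) (g ∣_ (W : S.Opens)) s)} := by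
    ext s
    have hbc := fibreMor_bc' (P := (@IsImmersion ⊓ @QuasiCompact : MorphismProperty Scheme.{u}))
      (isPullback_morphismRestrict g (W : S.Opens)).flip (isPullback_morphismRestrict f (g ⁻¹ᵁ (W : S.Opens))).flip s
    have h1 : QuasiCompact (fibreMor f g s.1) := MorphismProperty.of_isPullback (isPullback_fibreMor f g s.1) ‹_›
    haveI : QuasiCompact (f ∣_ (g ⁻¹ᵁ (W : S.Opens))) := IsZariskiLocalAtTarget.restrict ‹_› _
    have h2 : QuasiCompact (fibreMor (f ∣_ (g ⁻¹ᵁ (W : S.Opens))) (g ∣_ (W : S.Opens)) s) :=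
      MorphismProperty.of_isPullback (isPullback_fibreMor _ _ s) ‹_›
    exact ⟨fun h => (hbc.2 ⟨h, h1⟩).1, fun h => (hbc.1 ⟨h, h2⟩).1⟩
  exact e ▸ isLocallyConstructible_immersion_affine (f ∣_ (g ⁻¹ᵁ (W : S.Opens))) (g ∣_ (W : S.Opens))

theorem isLocallyConstructible_closedImmersion :
    IsLocallyConstructible {s : S | IsClosedImmersion (fibreMor f g s)} := by
  haveI : LocallyOfFinitePresentation f := AlgSpLib.locallyOfFinitePresentation_of_comp f g ‹_› inferInstance
  haveI : QuasiCompact f := MorphismProperty.of_postcomp (W := @QuasiCompact) (W' := @QuasiSeparated) f g ‹_› ‹_›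
  have hrf : IsLocallyConstructible (Set.range f.base) := by
    simpa using f.isLocallyConstructible_image (IsLocallyConstructible.univ (X := X))
  have e : {s : S | IsClosedImmersion (fibreMor f g s)} = {s : S | IsImmersion (fibreMor f g s)} ∩
      {s : S | IsClosed (Subtype.val ⁻¹' Set.range f.base : Set (Fib g s))} := by
    ext s
    have hr : Set.range (fibreMor f g s).base = g.fiberι s ⁻¹' Set.range f.base :=
      range_of_isPullback (isPullback_fibreMor f g s).flip
    have key : IsClosed (Subtype.val ⁻¹' Set.range f.base : Set (Fib g s)) ↔ IsClosed (Set.range (fibreMor f g s).base) := by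
      rw [← (g.fiberHomeo s).isClosed_preimage, hr]
      exact Iff.rfl
    show IsClosedImmersion _ ↔ IsImmersion _ ∧ IsClosed _
    rw [key]
    exact ⟨fun h => ⟨inferInstance, (fibreMor f g s).isClosedEmbedding.isClosed_range⟩,
      fun ⟨_, h⟩ => IsClosedImmersion.of_isPreimmersion _ h⟩
  exact e ▸ (isLocallyConstructible_immersion f g).inter (isLocallyConstructible_closed g hrf)

theorem isLocallyConstructible_openImmersion :
    IsLocallyConstructible {s : S | IsOpenImmersion (fibreMor f g s)} := by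
  haveI : LocallyOfFinitePresentation f := AlgSpLib.locallyOfFinitePresentation_of_comp f g ‹_› inferInstance
  have e : {s : S | IsOpenImmersion (fibreMor f g s)} =
      {s : S | Mono (fibreMor f g s)} ∩ {s : S | Flat (fibreMor f g s)} := by
    ext s
    haveI : LocallyOfFinitePresentation (fibreMor f g s) :=
      MorphismProperty.of_isPullback (isPullback_fibreMor f g s) inferInstance
    show IsOpenImmersion (fibreMor f g s) ↔ Mono (fibreMor f g s) ∧ Flat (fibreMor f g s)
    exact ⟨fun _ => ⟨inferInstance, inferInstance⟩, fun ⟨_, _⟩ => IsOpenImmersion.of_flat_of_mono _⟩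
  exact e ▸ (isLocallyConstructible_mono f g).inter (isLocallyConstructible_flat f g)

theorem isLocallyConstructible_isIso : IsLocallyConstructible {s : S | IsIso (fibreMor f g s)} := by
  have e : {s : S | IsIso (fibreMor f g s)} = {s : S | IsOpenImmersion (fibreMor f g s)} ∩
      {s : S | Function.Surjective (fibreMor f g s).base} := by
    ext s
    show IsIso _ ↔ IsOpenImmersion _ ∧ _
    rw [isIso_iff_isOpenImmersion_and_surjective, surjective_iff]
    rfl
  exact e ▸ (isLocallyConstructible_openImmersion f g).inter (ProConsLib.isLocallyConstructible_fibre_surjective f g)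

end General

end Groth.Agent.ConsFib
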