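import Groth.Agent.ConsFib.Morph
import Groth.Agent.FibConstr.FibreMap
import Groth.Agent.FibrewiseCrit.Unramified

/-!
# The unramified locus is constructible; monomorphic fibres
-/

universe u

open AlgebraicGeometry CategoryTheory CategoryTheory.Limits Topology Set TopologicalSpace
open Groth.FibrewiseCrit

namespace Groth.Agent.ConsFib

theorem isLocallyConstructible_fuLocus {X Y : Scheme.{u}} (f : X ⟶ Y) [LocallyOfFinitePresentation f] :
    IsLocallyConstructible (fuLocus f) := by
  intro x
  obtain ⟨_, ⟨V, hV, rfl⟩, hxV, -⟩ :=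
    Y.isBasis_affineOpens.exists_subset_of_mem_open (Set.mem_univ (f x)) isOpen_univ
  obtain ⟨_, ⟨U, hU, rfl⟩, hxU, hUV⟩ :=
    X.isBasis_affineOpens.exists_subset_of_mem_open hxV (V.2.preimage f.continuous)
  have hUV' : U ≤ f ⁻¹ᵁ V := hUV
  refine ⟨U, U.2.mem_nhds hxU, U.2, ?_⟩
  haveI : IsAffine (U : Scheme.{u}) := hU
  haveI : IsAffine (V : Scheme.{u}) := hV
  haveI : LocallyOfFinitePresentation (f.resLE V U hUV') := by
    delta Scheme.Hom.resLE; infer_instance
  obtain ⟨X₀, S₀, f₀, g, g', _, _, hpb, hft, hf₀, -⟩ := NoethApprox.exists_approx (f.resLE V U hUV')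
  haveI : IsNoetherianRing Γ(S₀, ⊤) := Algebra.FiniteType.isNoetherianRing ℤ _
  haveI : AlgebraicGeometry.IsNoetherian S₀ :=
    { __ := LocallyOfFiniteType.isLocallyNoetherian S₀.isoSpec.hom }
  haveI : AlgebraicGeometry.IsNoetherian X₀ := isNoetherian_source_affine f₀
  have h0 : IsConstructible (fuLocus f₀) :=
    IsRetrocompact.isConstructible (isOpen_fuLocus f₀) fun _ _ _ => NoetherianSpace.isCompact _
  have e : (Subtype.val ⁻¹' fuLocus f : Set (U : Scheme.{u})) = g' ⁻¹' fuLocus f₀ := by
    ext w
    show Scheme.Opens.ι U w ∈ fuLocus f ↔ _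
    rw [← mem_fuLocus_comp_left (Scheme.Opens.ι U) f, ← Scheme.Hom.resLE_comp_ι (e := hUV'), mem_fuLocus_comp_right,
      mem_fuLocus_of_isPullback hpb w]
    rfl
  exact e ▸ g'.isConstructible_preimage h0
where
  isNoetherian_source_affine {A B : Scheme.{u}} (p : A ⟶ B) [AlgebraicGeometry.IsNoetherian B] [LocallyOfFiniteType p]
      [IsAffine A] : AlgebraicGeometry.IsNoetherian A :=
    { __ := LocallyOfFiniteType.isLocallyNoetherian p }

/-- A morphism locally of finite type is a monomorphism iff it is unramified and radicial. -/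
theorem mono_iff {X Y : Scheme.{u}} (f : X ⟶ Y) [LocallyOfFiniteType f] :
    Mono f ↔ FormallyUnramified f ∧ UniversallyInjective f := by
  refine ⟨fun h => ?_, fun ⟨_, _⟩ => mono_of_formallyUnramified_of_universallyInjective f⟩
  haveI : IsIso (pullback.diagonal f) := inferInstance
  exact ⟨inferInstance, (UniversallyInjective.iff_diagonal f).2 inferInstance⟩

theorem setOf_formallyUnramified_eq {X Y S : Scheme.{u}} (f : X ⟶ Y) (g : Y ⟶ S) [LocallyOfFiniteType f] :
    {s : S | FormallyUnramified (fibreMor f g s)} = ((f ≫ g) '' (fuLocus f)ᶜ)ᶜ := by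
  ext s
  have hP := isPullback_fibreMor f g s
  show FormallyUnramified (fibreMor f g s) ↔ _
  rw [formallyUnramified_iff_forall_mem_fuLocus]
  constructor
  · rintro h ⟨x, hx, hxs⟩
    obtain ⟨p, rfl⟩ : x ∈ Set.range ((f ≫ g).fiberι s) := by rw [(f ≫ g).range_fiberι s]; exact hxs
    exact hx ((mem_fuLocus_of_isPullback hP p).1 (h p))
  · intro h p
    rw [mem_fuLocus_of_isPullback hP p]
    by_contra hn
    exact h ⟨_, hn, ((f ≫ g).range_fiberι s).le ⟨p, rfl⟩⟩

theorem isLocallyConstructible_formallyUnramified {X Y S : Scheme.{u}} (f : X ⟶ Y) (g : Y ⟶ S)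
    [LocallyOfFinitePresentation g] [QuasiCompact g] [QuasiSeparated g]
    [LocallyOfFinitePresentation (f ≫ g)] [QuasiCompact (f ≫ g)] :
    IsLocallyConstructible {s : S | FormallyUnramified (fibreMor f g s)} := by
  have : LocallyOfFinitePresentation f := AlgSpLib.locallyOfFinitePresentation_of_comp f g ‹_› inferInstance
  rw [setOf_formallyUnramified_eq f g]
  exact FibConstr.isLocallyConstructible_compl ((f ≫ g).isLocallyConstructible_image
    (FibConstr.isLocallyConstructible_compl (isLocallyConstructible_fuLocus f)))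

theorem isLocallyConstructible_mono {X Y S : Scheme.{u}} (f : X ⟶ Y) (g : Y ⟶ S)
    [LocallyOfFinitePresentation g] [QuasiCompact g] [QuasiSeparated g]
    [LocallyOfFinitePresentation (f ≫ g)] [QuasiCompact (f ≫ g)] [QuasiSeparated (f ≫ g)] :
    IsLocallyConstructible {s : S | Mono (fibreMor f g s)} := by
  have e : {s : S | Mono (fibreMor f g s)} =
      {s : S | FormallyUnramified (fibreMor f g s)} ∩ {s : S | UniversallyInjective (fibreMor f g s)} := by
    ext s
    haveI : LocallyOfFiniteType f := locallyOfFiniteType_of_comp f g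
    haveI : LocallyOfFiniteType (fibreMor f g s) := MorphismProperty.of_isPullback (isPullback_fibreMor f g s) inferInstance
    exact mono_iff _
  exact e ▸ (isLocallyConstructible_formallyUnramified f g).inter
    (FibConstr.isLocallyConstructible_setOf_universallyInjective f g _ (isPullback_fibreMor f g))

end Groth.Agent.ConsFib
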