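import Groth.Agent.ConsFib.Model
import Groth.Agent.ConsFib.Mono
import Groth.Agent.FlatDescent.Scheme
import Groth.Agent.FlatDescent.GenericSheaf
import Groth.Agent.AlgSpLib.SchFpqc
import Groth.Agent.ImmDescent.Basic
import Mathlib.AlgebraicGeometry.ZariskisMainTheorem
import Mathlib.AlgebraicGeometry.Morphisms.FlatMono

/-!
# Flatness and immersions of fibre maps spread out
-/

universe u

open AlgebraicGeometry CategoryTheory CategoryTheory.Limits Topology TopologicalSpace Set
open Groth.FlatDescent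

namespace Groth.Agent.ConsFib

theorem flat_stalk_comp_left {W X Y : Scheme.{u}} (k : W ⟶ X) [IsOpenImmersion k] (f : X ⟶ Y) (w : W) :
    ((k ≫ f).stalkMap w).hom.Flat ↔ (f.stalkMap (k w)).hom.Flat := by
  rw [Scheme.Hom.stalkMap_comp]
  exact RingHom.Flat.respectsIso.cancel_right_isIso (f.stalkMap (k w)) (k.stalkMap w)

theorem exists_generic_flat {X S : Scheme.{u}} (p : X ⟶ S) [IsAffine X] [IsAffine S] [IsIntegral S]
    [LocallyOfFiniteType p] :
    ∃ V : S.Opens, (V : Set S).Nonempty ∧ ∀ x, p x ∈ V → (p.stalkMap x).hom.Flat := by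
  have e : (⊤ : X.Opens) ≤ p ⁻¹ᵁ ⊤ := fun _ _ => trivial
  haveI : Algebra.FiniteType Γ(S, ⊤) Γ(S, ⊤) := inferInstance
  letI := (p.appLE ⊤ ⊤ e).hom.toAlgebra
  haveI : Algebra.FiniteType Γ(S, ⊤) Γ(X, ⊤) :=
    HasRingHomProperty.appLE @LocallyOfFiniteType p inferInstance ⟨⊤, isAffineOpen_top S⟩ ⟨⊤, isAffineOpen_top X⟩ e
  haveI : Nonempty (⊤ : S.Opens) := ⟨⟨genericPoint S, trivial⟩⟩
  haveI : IsDomain Γ(S, ⊤) := inferInstance
  obtain ⟨a, ha, hfree, -⟩ := GenFree.exists_freeAt_domain Γ(X, ⊤) Γ(X, ⊤) (R := Γ(S, ⊤))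
  refine ⟨S.basicOpen a, ?_, fun x hx => ?_⟩
  · by_contra hne
    rw [Set.not_nonempty_iff_eq_empty] at hne
    exact ha (basicOpen_eq_bot_iff a |>.mp (SetLike.coe_injective (hne.trans Opens.coe_bot.symm)))
  refine (flat_stalkMap_iff p (isAffineOpen_top S) (isAffineOpen_top X) e (x := x) trivial).2
    (flatAt_of_freeAt hfree _ fun hmem => ?_)
  letI := X.presheaf.algebra_section_stalk (U := ⊤) ⟨x, trivial⟩
  haveI := (isAffineOpen_top X).isLocalization_stalk ⟨x, trivial⟩
  have hu : IsUnit (X.presheaf.germ ⊤ x trivial (p.appLE ⊤ ⊤ e a)) := by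
    rw [Scheme.Hom.appLE, CommRingCat.comp_apply, TopCat.Presheaf.germ_res_apply, ← Scheme.Hom.germ_stalkMap_apply]
    exact ((S.mem_basicOpen a (p x) trivial).mp hx).map (p.stalkMap x).hom
  exact (IsLocalRing.mem_maximalIdeal _).mp
    ((IsLocalization.AtPrime.to_map_mem_maximal_iff (X.presheaf.stalk x) _ _).mpr hmem) hu

theorem morSpreads_flat : MorSpreads.{u} @Flat where
  respectsIso := inferInstance
  stable := inferInstance
  descends := AlgSpLib.flat_descendsAlong
  spread {X Y S} f g _ _ _ _ _ _ _ := by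
    haveI : AlgebraicGeometry.IsNoetherian X := isNoetherian_source (f ≫ g)
    haveI : LocallyOfFinitePresentation (f ≫ g) := inferInstance
    obtain ⟨V, hV, hflat⟩ := exists_generic_flat (f ≫ g)
    obtain ⟨W, hW, h⟩ := exists_empty_fib (f ≫ g) (E := {x : X | (f.stalkMap x).hom.Flat}ᶜ)
      (spread_dense.isConstructible_of_isClosed (isOpen_flatLocus_over f g).isClosed_compl)
    refine ⟨V ⊓ W, inter_nonempty hV hW, h.imp (fun h s hs => ?_) fun h s hs hc => ?_⟩
    · refine (Flat.iff_flat_stalkMap _).2 fun z => ?_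
      refine (flat_fiberMap_iff f g s _ (isPullback_fibreMor f g s).w.symm z).2 (fibFlat_of_flat f g _ ?_)
      by_contra hn
      refine h _ hn ?_
      rw [(f ≫ g).range_fiberι s |>.le ⟨z, rfl⟩]
      exact hs.2
    · obtain ⟨x, hx, hxs⟩ := h s hs.2
      obtain ⟨z, rfl⟩ := ((f ≫ g).range_fiberι s).ge hxs
      refine hx (flat_of_fibFlat f g _ (hflat _ (hxs.symm ▸ hs.1)) ?_).2
      exact (flat_fiberMap_iff f g s _ (isPullback_fibreMor f g s).w.symm z).1 (Flat.stalkMap _ _)

/-- A finite factorisation which is flat at the quasi-finite points. -/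
theorem exists_finite_factor {X Y : Scheme.{u}} (f : X ⟶ Y) [IsAffine X] [IsAffine Y]
    [AlgebraicGeometry.IsNoetherian X] [LocallyOfFiniteType f] :
    ∃ (T : Scheme.{u}) (j : X ⟶ T) (π : T ⟶ Y), IsFinite π ∧ j ≫ π = f ∧
      ∀ x, f.QuasiFiniteAt x → (j.stalkMap x).hom.Flat := by
  classical
  algebraize [f.appTop.hom]
  haveI : Algebra.FiniteType Γ(Y, ⊤) Γ(X, ⊤) :=
    (HasRingHomProperty.iff_of_isAffine (P := @LocallyOfFiniteType) (f := f)).mp ‹_›
  let Q : Set X := {x | f.QuasiFiniteAt x}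
  have hpt : ∀ x : Q, ∃ S' : Subalgebra Γ(Y, ⊤) Γ(X, ⊤), S'.toSubmodule.FG ∧ ∃ r : S',
      x.1 ∈ X.basicOpen r.1 ∧ Function.Bijective (Localization.awayMap S'.val.toRingHom r) := by
    rintro ⟨x, hx⟩
    let p := ((isAffineOpen_top X).primeIdealOf ⟨x, trivial⟩).asIdeal
    have hq := hx.quasiFiniteAt (isAffineOpen_top X) (isAffineOpen_top Y) (fun _ _ => trivial) trivial
    haveI : Algebra.QuasiFiniteAt Γ(Y, ⊤) p := by
      have e : ∀ h, f.appLE ⊤ ⊤ h = f.appTop := fun h => by simp [Scheme.Hom.appLE]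
      rw [e] at hq
      exact hq
    obtain ⟨S', hS', r, hr, hbij⟩ :=
      (Algebra.ZariskisMainProperty.of_finiteType (R := Γ(Y, ⊤)) p).exists_fg_and_exists_notMem_and_awayMap_bijective
    refine ⟨S', hS', r, ?_, hbij⟩
    have : x = (isAffineOpen_top X).fromSpec ((isAffineOpen_top X).primeIdealOf ⟨x, trivial⟩) :=
      ((isAffineOpen_top X).fromSpec_primeIdealOf ⟨x, trivial⟩).symm
    show x ∈ X.basicOpen r.1
    rw [this]
    exact (FibreND.mem_basicOpen (isAffineOpen_top X) r.1 _).2 hr
  choose S' hS' r hr hbij using hpt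
  obtain ⟨t, ht⟩ := (NoetherianSpace.isCompact Q).elim_finite_subcover (fun x : Q => (X.basicOpen (r x).1 : Set X))
    (fun x => (X.basicOpen (r x).1).2) (fun x hx => mem_iUnion.2 ⟨⟨x, hx⟩, hr _⟩)
  let A : Subalgebra Γ(Y, ⊤) Γ(X, ⊤) := t.sup S'
  haveI hfinA : Module.Finite Γ(Y, ⊤) A := by
    have : ∀ u : Finset Q, (u.sup S').toSubmodule.FG := fun u => by
      induction u using Finset.induction with
      | empty =>
        rw [Finset.sup_empty, Algebra.toSubmodule_bot, Submodule.one_eq_span]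
        exact Submodule.fg_span_singleton _
      | insert a u _ ih =>
        rw [Finset.sup_insert]
        rw [← Subalgebra.mul_toSubmodule]
        exact (hS' a).mul ih
    exact ⟨(Submodule.fg_top _).2 (this t)⟩
  let π : Spec (CommRingCat.of A) ⟶ Y := Spec.map (CommRingCat.ofHom (algebraMap Γ(Y, ⊤) A)) ≫ Y.isoSpec.inv
  let jv : Spec Γ(X, ⊤) ⟶ Spec (CommRingCat.of A) := Spec.map (CommRingCat.ofHom A.val.toRingHom)
  refine ⟨_, X.isoSpec.hom ≫ jv, π, ?_, ?_, fun x hx => ?_⟩
  · haveI : IsFinite (Spec.map (CommRingCat.ofHom (algebraMap Γ(Y, ⊤) A))) := by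
      rw [IsFinite.SpecMap_iff]; exact RingHom.finite_algebraMap.2 hfinA
    infer_instance
  · show (X.isoSpec.hom ≫ jv) ≫ _ ≫ _ = f
    rw [Category.assoc, ← Spec.map_comp_assoc]
    have : CommRingCat.ofHom (algebraMap Γ(Y, ⊤) A) ≫ CommRingCat.ofHom A.val.toRingHom = f.appTop := rfl
    rw [this, ← Category.assoc, Iso.comp_inv_eq, Scheme.isoSpec_hom_naturality]
  · obtain ⟨i, hit, hxi⟩ := mem_iUnion₂.1 (ht hx)
    let r' : A := ⟨(r i).1, (Finset.le_sup hit : S' i ≤ A) (r i).2⟩
    have hb : Function.Bijective (Localization.awayMap A.val.toRingHom r') := by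
      refine ⟨IsLocalization.map_injective_of_injective _ _ _ Subtype.val_injective, fun y => ?_⟩
      obtain ⟨z, rfl⟩ := (hbij i).2 y
      obtain ⟨a, ⟨_, n, rfl⟩, rfl⟩ := IsLocalization.exists_mk'_eq (Submonoid.powers (r i)) z
      refine ⟨IsLocalization.mk' _ (⟨a.1, (Finset.le_sup hit : S' i ≤ A) a.2⟩ : A)
        (⟨r' ^ n, ⟨n, rfl⟩⟩ : Submonoid.powers r'), ?_⟩
      simp only [Localization.awayMap, IsLocalization.Away.map, IsLocalization.map_mk']
      congr 1
    obtain ⟨y, hyx⟩ : ∃ y, y = X.isoSpec.hom x := ⟨_, rfl⟩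
    have hy : A.val.toRingHom r' ∉ y.asIdeal := by
      have h1 : x = (isAffineOpen_top X).fromSpec ((isAffineOpen_top X).primeIdealOf ⟨x, trivial⟩) :=
        ((isAffineOpen_top X).fromSpec_primeIdealOf ⟨x, trivial⟩).symm
      rw [h1] at hxi
      have h2 := (FibreND.mem_basicOpen (isAffineOpen_top X) _ _).1 hxi
      have h3 : (isAffineOpen_top X).primeIdealOf ⟨x, trivial⟩ = y := by
        refine (isAffineOpen_top X).fromSpec.isOpenEmbedding.injective ?_
        rw [(isAffineOpen_top X).fromSpec_primeIdealOf]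
        rw [hyx]
        show x = (isAffineOpen_top X).fromSpec (X.isoSpec.hom x)
        rw [IsAffineOpen.fromSpec_top, ← Scheme.Hom.comp_apply, Iso.hom_inv_id]
        rfl
      rw [h3] at h2
      exact h2
    haveI : IsIso (Spec.map (CommRingCat.ofHom (Localization.awayMap A.val.toRingHom r'))) := by
      haveI : IsIso (CommRingCat.ofHom (Localization.awayMap A.val.toRingHom r')) :=
        (ConcreteCategory.isIso_iff_bijective _).2 hb
      infer_instance
    haveI : IsIso (jv ∣_ PrimeSpectrum.basicOpen r') :=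
      ((MorphismProperty.isomorphisms Scheme).arrow_mk_iso_iff
        (SpecMapRestrictBasicOpenIso (CommRingCat.ofHom A.val.toRingHom) r')).2
        (MorphismProperty.isomorphisms.infer_property _)
    let w : (jv ⁻¹ᵁ PrimeSpectrum.basicOpen r' : Scheme.{u}) := ⟨y, hy⟩
    have h4 : (((jv ⁻¹ᵁ PrimeSpectrum.basicOpen r').ι ≫ jv).stalkMap w).hom.Flat := by
      rw [← morphismRestrict_ι]
      exact Flat.stalkMap _ _
    have h5 : (jv.stalkMap y).hom.Flat := (flat_stalk_comp_left (jv ⁻¹ᵁ PrimeSpectrum.basicOpen r').ι jv w).1 h4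
    subst hyx
    exact (flat_stalk_comp_left X.isoSpec.hom jv x).2 h5

/-- When is a monomorphism given as an open immersion followed by a finite map an immersion. -/
theorem isImmersion_iff_boundary {A T B : Scheme.{u}} (k : A ⟶ T) [IsOpenImmersion k] (π : T ⟶ B) [IsFinite π]
    [Mono (k ≫ π)] :
    IsImmersion (k ≫ π) ↔
      ∀ t ∈ closure (Set.range k.base), t ∉ Set.range k.base → π t ∉ Set.range (k ≫ π).base := by
  constructor
  · intro _ t ht htk hmem
    let φ := k ≫ π
    let O := φ.coborderRange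
    have hkO : Set.range k.base ⊆ π ⁻¹ᵁ O := by
      rintro _ ⟨a, rfl⟩
      show π (k a) ∈ O
      rw [← Scheme.Hom.comp_apply, show k ≫ π = φ.liftCoborder ≫ O.ι from φ.liftCoborder_ι.symm, Scheme.Hom.comp_apply]
      exact (φ.liftCoborder a).2
    let k' : A ⟶ (π ⁻¹ᵁ O : Scheme.{u}) := IsOpenImmersion.lift (π ⁻¹ᵁ O).ι k (by rwa [Scheme.Opens.range_ι])
    have hk' : k' ≫ (π ⁻¹ᵁ O).ι = k := IsOpenImmersion.lift_fac _ _ _
    have hfac : k' ≫ π ∣_ O = φ.liftCoborder := by
      rw [← cancel_mono O.ι, Category.assoc, morphismRestrict_ι, ← Category.assoc, hk']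
      exact φ.liftCoborder_ι.symm
    haveI : IsClosedImmersion (k' ≫ π ∣_ O) := by rw [hfac]; infer_instance
    haveI : IsClosedImmersion k' := IsClosedImmersion.of_comp k' (π ∣_ O)
    have htO : t ∈ π ⁻¹ᵁ O := by
      obtain ⟨a, ha⟩ := hmem
      show π t ∈ O
      rw [← ha]
      exact hkO ⟨a, rfl⟩ |> fun h => by
        show (k ≫ π) a ∈ O
        rw [Scheme.Hom.comp_apply]; exact h
    have hcl : (⟨t, htO⟩ : (π ⁻¹ᵁ O : Scheme.{u})) ∈ closure (Set.range k'.base) := by
      rw [(π ⁻¹ᵁ O).ι.isEmbedding.closure_eq_preimage_closure_image]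
      show (π ⁻¹ᵁ O).ι ⟨t, htO⟩ ∈ closure _
      rw [← Set.range_comp]
      have : Set.range ((π ⁻¹ᵁ O).ι.base ∘ k'.base) = Set.range k.base := by
        rw [← TopCat.coe_comp, ← Scheme.Hom.comp_base, hk']
      rw [this]
      exact ht
    rw [k'.isClosedEmbedding.isClosed_range.closure_eq] at hcl
    obtain ⟨a, ha⟩ := hcl
    refine htk ⟨a, ?_⟩
    rw [← hk', Scheme.Hom.comp_apply, ha]
    rfl
  · intro h
    let Bd : Set T := closure (Set.range k.base) ∩ (Set.range k.base)ᶜ
    have hBd : IsClosed Bd := isClosed_closure.inter k.isOpenEmbedding.isOpen_range.isClosed_compl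
    let O : B.Opens := ⟨(π.base '' Bd)ᶜ, (π.isClosedMap _ hBd).isOpen_compl⟩
    have hφO : ∀ a, π (k a) ∈ O := fun a => by
      rintro ⟨t, ⟨h1, h2⟩, ht⟩
      exact h t h1 h2 ⟨a, by rw [Scheme.Hom.comp_apply]; exact ht.symm⟩
    let k' : A ⟶ (π ⁻¹ᵁ O : Scheme.{u}) := IsOpenImmersion.lift (π ⁻¹ᵁ O).ι k
      (by rw [Scheme.Opens.range_ι]; rintro _ ⟨a, rfl⟩; exact hφO a)
    have hk' : k' ≫ (π ⁻¹ᵁ O).ι = k := IsOpenImmersion.lift_fac _ _ _
    have hval : ∀ a, (k' a).1 = k a := fun a => congrArg (fun m : A ⟶ T => m a) hk'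
    haveI : IsPreimmersion (k' ≫ (π ⁻¹ᵁ O).ι) := by rw [hk']; infer_instance
    haveI : IsPreimmersion k' := IsPreimmersion.of_comp k' (π ⁻¹ᵁ O).ι
    haveI : IsClosedImmersion k' := by
      refine IsClosedImmersion.of_isPreimmersion _ ?_
      have e : Set.range k'.base = (π ⁻¹ᵁ O).ι.base ⁻¹' closure (Set.range k.base) := by
        ext z
        constructor
        · rintro ⟨a, rfl⟩
          exact subset_closure ⟨a, (hval a).symm⟩
        · intro hz
          by_contra hn
          refine (z.2 : π z.1 ∈ O) ⟨z.1, ⟨hz, fun ⟨a, ha⟩ => hn ⟨a, Subtype.ext ((hval a).trans ha)⟩⟩, rfl⟩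
      rw [e]
      exact isClosed_closure.preimage (π ⁻¹ᵁ O).ι.continuous
    have hfac : (k' ≫ π ∣_ O) ≫ O.ι = k ≫ π := by
      rw [Category.assoc, morphismRestrict_ι, ← Category.assoc, hk']
    haveI : Mono ((k' ≫ π ∣_ O) ≫ O.ι) := by rw [hfac]; infer_instance
    haveI : Mono (k' ≫ π ∣_ O) := mono_of_mono _ O.ι
    haveI : IsClosedImmersion (k' ≫ π ∣_ O) := (IsClosedImmersion.iff_isFinite_and_mono _).2 ⟨inferInstance, ‹_›⟩
    rw [← hfac]
    infer_instance

theorem morSpreads_immersion : MorSpreads.{u} (@IsImmersion ⊓ @QuasiCompact : MorphismProperty Scheme.{u}) where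
  respectsIso := inferInstance
  stable := inferInstance
  descends := ImmDescent.qcImmersion_descendsAlong
  spread {X Y S} f g _ _ _ _ _ _ _ := by
    haveI : AlgebraicGeometry.IsNoetherian Y := isNoetherian_source g
    haveI : AlgebraicGeometry.IsNoetherian X := isNoetherian_source (f ≫ g)
    haveI : LocallyOfFinitePresentation g := inferInstance
    haveI : LocallyOfFinitePresentation (f ≫ g) := inferInstance
    haveI : LocallyOfFiniteType f := locallyOfFiniteType_of_comp f g
    haveI : QuasiCompact f := inferInstance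
    obtain ⟨O₁, hO₁, hη₁, h1⟩ := exists_dichotomy (isLocallyConstructible_mono f g).isConstructible
    rcases h1 with h1 | h1
    swap
    · refine ⟨⟨O₁, hO₁⟩, ⟨_, hη₁⟩, Or.inr fun s hs hc => ?_⟩
      haveI : IsImmersion (fibreMor f g s) := hc.1
      exact disjoint_left.1 h1 hs (inferInstance : Mono (fibreMor f g s))
    obtain ⟨T, j, π, _, hjπ, hjflat⟩ := exists_finite_factor f
    haveI : AlgebraicGeometry.IsNoetherian T :=
      { __ := LocallyOfFiniteType.isLocallyNoetherian π
        __ := QuasiCompact.compactSpace_of_compactSpace π }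
    let A : Set T := Set.range j.base
    haveI : LocallyOfFiniteType j := by
      haveI : LocallyOfFiniteType (j ≫ π) := by rw [hjπ]; infer_instance
      exact locallyOfFiniteType_of_comp j π
    haveI : LocallyOfFinitePresentation j := inferInstance
    haveI : QuasiCompact j := inferInstance
    have hA : IsConstructible A := by
      simpa using (j.isLocallyConstructible_image (IsLocallyConstructible.univ (X := X))).isConstructible
    obtain ⟨O₂, hO₂, hcl⟩ := exists_closure_fib (π ≫ g) hA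
    let E : Set Y := π.base '' (closure A \ A) ∩ Set.range f.base
    have hE : IsConstructible E := by
      refine IsConstructible.inter ?_ ?_
      · exact (π.isLocallyConstructible_image
          ((spread_dense.isConstructible_of_isClosed isClosed_closure).sdiff hA).isLocallyConstructible).isConstructible
      · simpa using (f.isLocallyConstructible_image (IsLocallyConstructible.univ (X := X))).isConstructible
    obtain ⟨O₃, hO₃, h3⟩ := exists_empty_fib g hE
    refine ⟨⟨O₁, hO₁⟩ ⊓ (O₂ ⊓ O₃), inter_nonempty ⟨_, hη₁⟩ (inter_nonempty hO₂ hO₃), ?_⟩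
    have key : ∀ s : S, s ∈ O₁ → s ∈ O₂ → (IsImmersion (fibreMor f g s) ↔ ∀ y ∈ E, g y ≠ s) := by
      intro s hs1 hs2
      haveI hmono : Mono (fibreMor f g s) := h1 hs1
      let L := fibreMor f g s
      have hP := isPullback_fibreMor f g s
      have hT : IsPullback (pullback.fst π (g.fiberι s)) (pullback.snd π (g.fiberι s)) π (g.fiberι s) :=
        IsPullback.of_hasPullback _ _
      let k : (f ≫ g).fiber s ⟶ pullback π (g.fiberι s) :=
        pullback.lift ((f ≫ g).fiberι s ≫ j) L (by rw [Category.assoc, hjπ]; exact hP.w)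
      have hkL : k ≫ pullback.snd π (g.fiberι s) = L := pullback.lift_snd _ _ _
      have hkj : k ≫ pullback.fst π (g.fiberι s) = (f ≫ g).fiberι s ≫ j := pullback.lift_fst _ _ _
      have hk : IsPullback ((f ≫ g).fiberι s) k j (pullback.fst π (g.fiberι s)) := by
        refine IsPullback.of_bot ?_ hkj.symm hT
        rw [hkL, hjπ]
        exact hP
      haveI : LocallyOfFiniteType L := MorphismProperty.of_isPullback hP inferInstance
      haveI : UniversallyInjective L := ((mono_iff L).1 hmono).2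
      -- the fibre lies in the flat locus of `j`
      have hflat : ∀ p, (j.stalkMap ((f ≫ g).fiberι s p)).hom.Flat := by
        intro p
        refine hjflat _ (Scheme.Hom.quasiFiniteAt_iff_isOpen_singleton_asFiber.2 ?_)
        have hsub : Subsingleton ↥(f.fiber (f ((f ≫ g).fiberι s p))) := by
          refine ⟨fun a b => (f.fiberHomeo _).injective (Subtype.ext ?_)⟩
          have hs' : ∀ c : ↥(f.fiber (f ((f ≫ g).fiberι s p))), f.fiberι _ c = (f ≫ g).fiberι s p := by
            intro c
            have hc : f (f.fiberι _ c) = f ((f ≫ g).fiberι s p) := (f.range_fiberι _).le ⟨c, rfl⟩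
            obtain ⟨c', hc'⟩ := ((f ≫ g).range_fiberι s).ge (show (f ≫ g) (f.fiberι _ c) = s by
              rw [Scheme.Hom.comp_apply, hc, ← Scheme.Hom.comp_apply]
              exact ((f ≫ g).range_fiberι s).le ⟨p, rfl⟩)
            rw [← hc']
            congr 1
            refine L.injective ((g.fiberι s).isEmbedding.injective ?_)
            rw [← Scheme.Hom.comp_apply, ← Scheme.Hom.comp_apply, ← hP.w, Scheme.Hom.comp_apply,
              Scheme.Hom.comp_apply, hc']
            exact hc
          exact (hs' a).trans (hs' b).symm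
        rw [show ({f.asFiber ((f ≫ g).fiberι s p)} : Set _) = univ from Set.eq_univ_of_forall fun c => Subsingleton.elim c _]
        exact isOpen_univ
      haveI : Flat k := by
        let U : X.Opens := ⟨_, isOpen_flatLocus_hom j⟩
        haveI : Flat (U.ι ≫ j) := (Flat.iff_flat_stalkMap _).2 fun w => (flat_stalk_comp_left U.ι j w).2 w.2
        let l : (f ≫ g).fiber s ⟶ (U : Scheme.{u}) :=
          IsOpenImmersion.lift U.ι ((f ≫ g).fiberι s) (by rw [Scheme.Opens.range_ι]; rintro _ ⟨p, rfl⟩; exact hflat p)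
        have hl : l ≫ U.ι = (f ≫ g).fiberι s := IsOpenImmersion.lift_fac _ _ _
        have h5 : IsPullback l (𝟙 _) U.ι ((f ≫ g).fiberι s) :=
          IsPullback.of_vert_isIso_mono ⟨by rw [hl, Category.id_comp]⟩
        have h6 := h5.paste_vert hk
        rw [Category.id_comp] at h6
        exact MorphismProperty.of_isPullback h6 ‹Flat (U.ι ≫ j)›
      haveI : Mono (k ≫ pullback.snd π (g.fiberι s)) := by rw [hkL]; exact hmono
      haveI : Mono k := mono_of_mono k (pullback.snd π (g.fiberι s))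
      haveI : LocallyOfFinitePresentation k := MorphismProperty.of_isPullback hk inferInstance
      haveI : IsOpenImmersion k := IsOpenImmersion.of_flat_of_mono k
      haveI : IsFinite (pullback.snd π (g.fiberι s)) := inferInstance
      show IsImmersion L ↔ _
      rw [← hkL, isImmersion_iff_boundary, hkL]
      have hrk : Set.range k.base = (pullback.fst π (g.fiberι s)).base ⁻¹' A := by
        ext t
        constructor
        · rintro ⟨p, rfl⟩
          exact ⟨(f ≫ g).fiberι s p, by rw [← Scheme.Hom.comp_apply, ← hkj]; rfl⟩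
        · rintro ⟨x, hx⟩
          obtain ⟨p, -, hp⟩ := Scheme.exists_preimage_of_isPullback hk x t hx
          exact ⟨p, hp⟩
      have hrfst : Set.range (pullback.fst π (g.fiberι s)).base = (π ≫ g).base ⁻¹' {s} := by
        rw [Scheme.Pullback.range_fst, g.range_fiberι s]
        rfl
      have hemb : IsEmbedding (pullback.fst π (g.fiberι s)).base := (pullback.fst π (g.fiberι s)).isEmbedding
      have hclk : ∀ t, t ∈ closure (Set.range k.base) ↔ pullback.fst π (g.fiberι s) t ∈ closure A := by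
        intro t
        rw [hrk, hemb.closure_eq_preimage_closure_image, Set.mem_preimage, Set.image_preimage_eq_inter_range, hrfst]
        refine ⟨fun h => closure_mono inter_subset_left h, fun h => ?_⟩
        have ht : (π ≫ g) (pullback.fst π (g.fiberι s) t) = s := hrfst.le ⟨t, rfl⟩
        have := hcl _ (ht.symm ▸ hs2) h
        rwa [ht] at this
      have hw : ∀ t, g.fiberι s (pullback.snd π (g.fiberι s) t) = π (pullback.fst π (g.fiberι s) t) := fun t =>
        (congrArg (fun m : pullback π (g.fiberι s) ⟶ Y => m t) hT.w).symm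
      constructor
      · rintro h y ⟨⟨t, ⟨htc, htA⟩, rfl⟩, x, hx⟩ hys
        obtain ⟨t', rfl⟩ := hrfst.ge (show (π ≫ g) t = s by rw [Scheme.Hom.comp_apply]; exact hys)
        refine h t' ((hclk t').2 htc) (fun h' => htA (hrk.le h')) ?_
        obtain ⟨p, hp, -⟩ := Scheme.exists_preimage_of_isPullback hP x (pullback.snd π (g.fiberι s) t')
          (hx.trans (hw t').symm)
        obtain ⟨p', -, hp'⟩ := Scheme.exists_preimage_of_isPullback hP x (pullback.snd π (g.fiberι s) t')
          (hx.trans (hw t').symm)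
        exact ⟨p', hp'⟩
      · rintro h t htc htk ⟨p, hp⟩
        refine h (π (pullback.fst π (g.fiberι s) t)) ⟨⟨_, ⟨(hclk t).1 htc, fun h' => htk (hrk.ge h')⟩, rfl⟩, ?_⟩ ?_
        · exact ⟨(f ≫ g).fiberι s p, by rw [← hw, ← hp, ← Scheme.Hom.comp_apply, hP.w]; rfl⟩
        · rw [← Scheme.Hom.comp_apply]
          exact hrfst.le ⟨t, rfl⟩
    refine h3.imp (fun h s hs => ⟨(key s hs.1 hs.2.1).2 fun y hy hys => h y hy (hys.symm ▸ hs.2.2), ?_⟩)
      fun h s hs hc => ?_
    · exact MorphismProperty.of_isPullback (isPullback_fibreMor f g s) ‹QuasiCompact f›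
    · obtain ⟨y, hy, hys⟩ := h s hs.2.2
      exact (key s hs.1 hs.2.1).1 hc.1 y hy hys

end Groth.Agent.ConsFib
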