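import Groth.Agent.ConsFib.Morph
import Groth.Agent.S9456

/-!
# Loci of fibrewise properties of morphisms: reduction to Noetherian bases for affine pieces
-/

universe u

open AlgebraicGeometry CategoryTheory CategoryTheory.Limits Topology TopologicalSpace Set MvPolynomial

namespace Groth.Agent.ConsFib

/-- Two composable ring maps of finite presentation come from a Noetherian model. -/
theorem exists_model_rings {R B C : CommRingCat.{u}} (φ : R ⟶ B) (ψ : B ⟶ C) (hφ : φ.hom.FinitePresentation)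
    (hφψ : (φ ≫ ψ).hom.FinitePresentation) :
    ∃ (R₀ B₀ C₀ : CommRingCat.{u}) (φ₀ : R₀ ⟶ B₀) (ψ₀ : B₀ ⟶ C₀) (r : R₀ ⟶ R) (b : B₀ ⟶ B) (c : C₀ ⟶ C),
      CategoryTheory.IsPushout r φ₀ φ b ∧ CategoryTheory.IsPushout r (φ₀ ≫ ψ₀) (φ ≫ ψ) c ∧ ψ₀ ≫ c = b ≫ ψ ∧
      IsNoetherianRing R₀ ∧ φ₀.hom.FiniteType ∧ (φ₀ ≫ ψ₀).hom.FiniteType := by
  classical
  algebraize [φ.hom, ψ.hom, (φ ≫ ψ).hom]
  haveI : IsScalarTower R B C := IsScalarTower.of_algebraMap_eq' rfl
  haveI : Algebra.FinitePresentation R C := hφψ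
  obtain ⟨n, πB, hπB, hkB⟩ := Algebra.FinitePresentation.out (R := R) (A := B)
  obtain ⟨m, πC', hπC', -⟩ := Algebra.FinitePresentation.out (R := R) (A := C)
  let ι : Fin n → Fin (n + m) := Fin.castAdd m
  let πC : MvPolynomial (Fin (n + m)) R →ₐ[R] C :=
    aeval (Fin.append (fun i => algebraMap B C (πB (X i))) (fun j => πC' (X j)))
  have hπC : Function.Surjective πC := by
    intro y
    obtain ⟨p, rfl⟩ := hπC' y
    refine ⟨rename (Fin.natAdd n) p, ?_⟩
    show aeval _ (rename _ p) = _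
    rw [aeval_rename]
    refine AlgHom.congr_fun (?_ : aeval _ = πC') p
    exact algHom_ext fun j => by simp
  have hcompat : ∀ p, πC (rename ι p) = algebraMap B C (πB p) := fun p => by
    refine AlgHom.congr_fun (?_ : πC.comp (rename ι) = (IsScalarTower.toAlgHom R B C).comp πB) p
    exact algHom_ext fun i => by simp [πC, ι]
  have hkC : (RingHom.ker πC.toRingHom).FG := Algebra.FinitePresentation.ker_fG_of_surjective πC hπC
  obtain ⟨GB, hGB⟩ := hkB
  obtain ⟨GC, hGC⟩ := hkC
  let R₀ : Subalgebra ℤ R := Algebra.adjoin ℤ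
    ((GB.biUnion fun p => p.coeffs : Finset R) ∪ (GC.biUnion fun p => p.coeffs) : Set R)
  haveI : Algebra.FiniteType ℤ R₀ := by
    refine (Subalgebra.fg_iff_finiteType _).1 ⟨(GB.biUnion fun p => p.coeffs) ∪ (GC.biUnion fun p => p.coeffs), ?_⟩
    rw [Finset.coe_union]
  haveI : IsNoetherianRing R₀ := Algebra.FiniteType.isNoetherianRing ℤ R₀
  let mB : MvPolynomial (Fin n) R₀ →+* MvPolynomial (Fin n) R := MvPolynomial.map (algebraMap R₀ R)
  let mC : MvPolynomial (Fin (n + m)) R₀ →+* MvPolynomial (Fin (n + m)) R := MvPolynomial.map (algebraMap R₀ R)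
  let HB : Ideal (MvPolynomial (Fin n) R₀) := (RingHom.ker πB.toRingHom).comap mB
  let HC : Ideal (MvPolynomial (Fin (n + m)) R₀) := (RingHom.ker πC.toRingHom).comap mC
  have hle : HB ≤ HC.comap (rename ι).toRingHom := fun p hp => by
    have hp' : πB (mB p) = 0 := hp
    show πC (MvPolynomial.map _ (rename ι p)) = 0
    rw [map_rename, hcompat, show MvPolynomial.map (algebraMap R₀ R) p = mB p from rfl, hp', map_zero]
  have hgen : ∀ {σ : Type} (p : MvPolynomial σ R), (p.coeffs : Set R) ⊆ (R₀ : Set R) →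
      p ∈ Set.range (MvPolynomial.map (σ := σ) (algebraMap R₀ R)) := fun p hp => by
    rw [mem_range_map_iff_coeffs_subset]
    exact fun x hx => ⟨⟨x, hp hx⟩, rfl⟩
  have hmapB : RingHom.ker πB.toRingHom ≤ HB.map mB := by
    conv_lhs => rw [← hGB]
    refine Ideal.span_le.2 fun p hp => ?_
    obtain ⟨q, rfl⟩ := hgen p fun x hx => Algebra.subset_adjoin (Or.inl (Finset.mem_biUnion.2 ⟨p, hp, hx⟩))
    refine Ideal.mem_map_of_mem mB ?_
    show πB (mB q) = 0
    exact (hGB.le (Ideal.subset_span hp) : _)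
  have hmapC : RingHom.ker πC.toRingHom ≤ HC.map mC := by
    conv_lhs => rw [← hGC]
    refine Ideal.span_le.2 fun p hp => ?_
    obtain ⟨q, rfl⟩ := hgen p fun x hx => Algebra.subset_adjoin (Or.inr (Finset.mem_biUnion.2 ⟨p, hp, hx⟩))
    refine Ideal.mem_map_of_mem mC ?_
    show πC (mC q) = 0
    exact (hGC.le (Ideal.subset_span hp) : _)
  letI algB : Algebra (MvPolynomial (Fin n) R₀ ⧸ HB) B :=
    (Ideal.Quotient.lift HB (πB.toRingHom.comp mB) fun _ h => h).toAlgebra
  letI algC : Algebra (MvPolynomial (Fin (n + m)) R₀ ⧸ HC) C :=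
    (Ideal.Quotient.lift HC (πC.toRingHom.comp mC) fun _ h => h).toAlgebra
  haveI : IsScalarTower R₀ (MvPolynomial (Fin n) R₀ ⧸ HB) B := ⟨fun a b c => by
    obtain ⟨b, rfl⟩ := Ideal.Quotient.mk_surjective b
    show πB (MvPolynomial.map (algebraMap R₀ R) (a • b)) * c =
      algebraMap R₀ R a • (πB (MvPolynomial.map (algebraMap R₀ R) b) * c)
    rw [Algebra.smul_def a b, MvPolynomial.algebraMap_eq, map_mul, map_mul, MvPolynomial.map_C,
      ← MvPolynomial.algebraMap_eq, πB.commutes, Algebra.smul_def, mul_assoc]⟩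
  haveI : IsScalarTower R₀ (MvPolynomial (Fin (n + m)) R₀ ⧸ HC) C := ⟨fun a b c => by
    obtain ⟨b, rfl⟩ := Ideal.Quotient.mk_surjective b
    show πC (MvPolynomial.map (algebraMap R₀ R) (a • b)) * c =
      algebraMap R₀ R a • (πC (MvPolynomial.map (algebraMap R₀ R) b) * c)
    rw [Algebra.smul_def a b, MvPolynomial.algebraMap_eq, map_mul, map_mul, MvPolynomial.map_C,
      ← MvPolynomial.algebraMap_eq, πC.commutes, Algebra.smul_def, mul_assoc]⟩
  have pB : Algebra.IsPushout R₀ R (MvPolynomial (Fin n) R₀ ⧸ HB) B :=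
    S9456.isPushout_of_presentation πB hπB HB (fun _ => rfl) hmapB
  have pC : Algebra.IsPushout R₀ R (MvPolynomial (Fin (n + m)) R₀ ⧸ HC) C :=
    S9456.isPushout_of_presentation πC hπC HC (fun _ => rfl) hmapC
  let φ₀ : CommRingCat.of R₀ ⟶ CommRingCat.of (MvPolynomial (Fin n) R₀ ⧸ HB) := CommRingCat.ofHom (algebraMap _ _)
  let ψ₀ : CommRingCat.of (MvPolynomial (Fin n) R₀ ⧸ HB) ⟶ CommRingCat.of (MvPolynomial (Fin (n + m)) R₀ ⧸ HC) :=
    CommRingCat.ofHom (Ideal.quotientMap HC (rename ι).toRingHom hle)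
  have hcomp : φ₀ ≫ ψ₀ = CommRingCat.ofHom (algebraMap R₀ (MvPolynomial (Fin (n + m)) R₀ ⧸ HC)) := by
    ext a
    exact congrArg (Ideal.Quotient.mk HC) (rename_C ι a)
  refine ⟨_, _, _, φ₀, ψ₀, CommRingCat.ofHom (algebraMap R₀ R), CommRingCat.ofHom (algebraMap _ B),
    CommRingCat.ofHom (algebraMap _ C), CommRingCat.isPushout_of_isPushout R₀ R _ B, ?_, ?_, ‹_›, ?_, ?_⟩
  · rw [hcomp]
    exact CommRingCat.isPushout_of_isPushout R₀ R _ C
  · refine CommRingCat.hom_ext (Ideal.Quotient.ringHom_ext (RingHom.ext fun p => ?_))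
    show πC (MvPolynomial.map _ (rename ι p)) = algebraMap B C (πB (MvPolynomial.map _ p))
    rw [map_rename, hcompat]
  · exact RingHom.finiteType_algebraMap.2 inferInstance
  · rw [hcomp]
    exact RingHom.finiteType_algebraMap.2 inferInstance

theorem isReduced_vanishing {X : Scheme.{u}} (C : Closeds X) :
    AlgebraicGeometry.IsReduced (Scheme.IdealSheafData.vanishingIdeal C).subscheme := by
  let I := Scheme.IdealSheafData.vanishingIdeal C
  have : ∀ i, AlgebraicGeometry.IsReduced (I.subschemeCover.openCover.X i) := fun U => by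
    change AlgebraicGeometry.IsReduced (Spec (CommRingCat.of (Γ(X, U.1) ⧸ I.ideal U)))
    have : _root_.IsReduced (Γ(X, U.1) ⧸ I.ideal U) := by
      rw [← Ideal.isRadical_iff_quotient_reduced]
      simp only [I]
      exact PrimeSpectrum.isRadical_vanishingIdeal _
    infer_instance
  exact AlgebraicGeometry.IsReduced.of_openCover (X := _) I.subschemeCover.openCover

/-- A fibrewise property of a morphism over a base which behaves generically well on affine Noetherian data. -/
structure MorSpreads (P : MorphismProperty Scheme.{u}) : Prop where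
  respectsIso : P.RespectsIso
  stable : P.IsStableUnderBaseChange
  descends : P.DescendsAlong (@Surjective ⊓ @Flat ⊓ @QuasiCompact : MorphismProperty Scheme.{u})
  spread : ∀ {X Y S : Scheme.{u}} (f : X ⟶ Y) (g : Y ⟶ S) [IsAffine X] [IsAffine Y] [IsAffine S] [IsIntegral S]
    [AlgebraicGeometry.IsNoetherian S] [LocallyOfFiniteType g] [LocallyOfFiniteType (f ≫ g)],
    ∃ V : S.Opens, (V : Set S).Nonempty ∧ ((∀ s ∈ V, P (fibreMor f g s)) ∨ ∀ s ∈ V, ¬ P (fibreMor f g s))

variable {P : MorphismProperty Scheme.{u}}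

/-- The fibre maps of a base change are base changes of the fibre maps along fpqc coverings. -/
theorem fibreMor_bc' [P.RespectsIso] [P.IsStableUnderBaseChange]
    [P.DescendsAlong (@Surjective ⊓ @Flat ⊓ @QuasiCompact : MorphismProperty Scheme.{u})] {X Y S X' Y' S' : Scheme.{u}} {f : X ⟶ Y} {g : Y ⟶ S} {f' : X' ⟶ Y'}
    {g' : Y' ⟶ S'} {gX : X' ⟶ X} {gY : Y' ⟶ Y} {q : S' ⟶ S} (h1 : IsPullback gY g' g q)
    (h2 : IsPullback gX f' f gY) (y : S') : P (fibreMor f' g' y) ↔ P (fibreMor f g (q y)) := by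
  let m : g'.fiber y ⟶ g.fiber (q y) := pullback.map g' (S'.fromSpecResidueField y) g (S.fromSpecResidueField (q y))
    gY (Spec.map (q.residueFieldMap y)) q h1.w.symm (by simp)
  have hm1 : m ≫ g.fiberι (q y) = g'.fiberι y ≫ gY := pullback.lift_fst _ _ _
  have hp : IsPullback m (g'.fiberToSpecResidueField y) (g.fiberToSpecResidueField (q y))
      (Spec.map (q.residueFieldMap y)) := isPullback_fiberToSpecResidueField_of_isPullback h1 y
  have hm : (@Surjective ⊓ @Flat ⊓ @QuasiCompact : MorphismProperty Scheme.{u}) m := by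
    have hs : Surjective (Spec.map (q.residueFieldMap y)) :=
      ⟨fun b => ⟨IsLocalRing.closedPoint _, Subsingleton.elim _ _⟩⟩
    have hfl : Flat (Spec.map (q.residueFieldMap y)) := by
      rw [HasRingHomProperty.Spec_iff (P := @Flat)]
      algebraize [(q.residueFieldMap y).hom]
      exact RingHom.flat_algebraMap_iff.2 inferInstance
    exact ⟨⟨MorphismProperty.of_isPullback hp.flip hs, MorphismProperty.of_isPullback hp.flip hfl⟩,
      MorphismProperty.of_isPullback hp.flip (inferInstance : QuasiCompact (Spec.map (q.residueFieldMap y)))⟩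
  have hbig : IsPullback ((f' ≫ g').fiberι y ≫ gX) (fibreMor f' g' y) f (m ≫ g.fiberι (q y)) := by
    rw [hm1]
    exact (isPullback_fibreMor f' g' y).paste_horiz h2
  have hsq : IsPullback ((isPullback_fibreMor f g (q y)).lift ((f' ≫ g').fiberι y ≫ gX) (fibreMor f' g' y ≫ m)
      (by rw [Category.assoc (fibreMor f' g' y)]; exact hbig.w)) (fibreMor f' g' y) (fibreMor f g (q y)) m :=
    IsPullback.of_right (by rwa [IsPullback.lift_fst]) (IsPullback.lift_snd _ _ _ _) (isPullback_fibreMor f g (q y))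
  exact MorphismProperty.iff_of_isPullback hsq.flip hm

theorem fibreMor_bc (hP : MorSpreads P) {X Y S X' Y' S' : Scheme.{u}} {f : X ⟶ Y} {g : Y ⟶ S} {f' : X' ⟶ Y'}
    {g' : Y' ⟶ S'} {gX : X' ⟶ X} {gY : Y' ⟶ Y} {q : S' ⟶ S} (h1 : IsPullback gY g' g q)
    (h2 : IsPullback gX f' f gY) (y : S') : P (fibreMor f' g' y) ↔ P (fibreMor f g (q y)) :=
  haveI := hP.respectsIso
  haveI := hP.stable
  haveI := hP.descends
  fibreMor_bc' h1 h2 y

theorem isConstructible_mor_noetherian (hP : MorSpreads P) {X Y S : Scheme.{u}} (f : X ⟶ Y) (g : Y ⟶ S) [IsAffine X]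
    [IsAffine Y] [IsAffine S] [AlgebraicGeometry.IsNoetherian S] [LocallyOfFiniteType g] [LocallyOfFiniteType (f ≫ g)] :
    IsConstructible {s : S | P (fibreMor f g s)} := by
  refine FibConstr.isConstructible_of_generic _ fun Z hZ hirr => ?_
  let I := Scheme.IdealSheafData.vanishingIdeal (⟨Z, hZ⟩ : Closeds S)
  let i := I.subschemeι
  have hri : Set.range i = Z := by
    rw [Scheme.IdealSheafData.range_subschemeι, Scheme.IdealSheafData.coe_support_vanishingIdeal]
    rfl
  haveI : AlgebraicGeometry.IsNoetherian I.subscheme :=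
    { __ := LocallyOfFiniteType.isLocallyNoetherian i
      __ := QuasiCompact.compactSpace_of_compactSpace i }
  haveI : IrreducibleSpace I.subscheme := by
    let e : I.subscheme ≃ₜ (Z : Set S) := i.isClosedEmbedding.isEmbedding.toHomeomorph.trans (.setCongr hri)
    have : IrreducibleSpace (Z : Set S) := Subtype.irreducibleSpace hirr
    exact e.symm.surjective.irreducibleSpace e.symm.continuous
  haveI : IsAffine I.subscheme := isAffine_of_isAffineHom i
  haveI : AlgebraicGeometry.IsReduced I.subscheme := isReduced_vanishing _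
  haveI : IsIntegral I.subscheme := isIntegral_of_irreducibleSpace_of_isReduced _
  let gY := pullback.fst g i
  let g' := pullback.snd g i
  let gX := pullback.fst f gY
  let f' := pullback.snd f gY
  haveI : IsClosedImmersion gY := MorphismProperty.pullback_fst _ _ inferInstance
  haveI : IsClosedImmersion gX := MorphismProperty.pullback_fst _ _ inferInstance
  haveI : IsAffine (pullback g i) := isAffine_of_isAffineHom gY
  haveI : IsAffine (pullback f gY) := isAffine_of_isAffineHom gX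
  have h1 : IsPullback gY g' g i := IsPullback.of_hasPullback g i
  have h2 : IsPullback gX f' f gY := IsPullback.of_hasPullback f gY
  haveI : LocallyOfFiniteType g' := MorphismProperty.of_isPullback h1 inferInstance
  haveI : LocallyOfFiniteType (f' ≫ g') := MorphismProperty.of_isPullback (h2.paste_vert h1) inferInstance
  obtain ⟨V, ⟨v, hv⟩, hVΦ⟩ := hP.spread f' g'
  obtain ⟨U, hU, hUV⟩ := i.isClosedEmbedding.isEmbedding.isOpen_iff.1 V.2
  have hbc := fibreMor_bc hP h1 h2
  refine ⟨U, hU, ⟨i v, hri.le ⟨v, rfl⟩, hUV.ge hv⟩, hVΦ.imp (fun h => ?_) fun h => ?_⟩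
  · rintro z ⟨hzZ, hzU⟩
    obtain ⟨w, rfl⟩ := hri.ge hzZ
    exact (hbc w).1 (h w (hUV.le hzU))
  · rw [Set.disjoint_left]
    rintro z ⟨hzZ, hzU⟩ hz
    obtain ⟨w, rfl⟩ := hri.ge hzZ
    exact h w (hUV.le hzU) ((hbc w).2 hz)

theorem isLocallyConstructible_mor_spec (hP : MorSpreads P) {R B C : CommRingCat.{u}} (φ : R ⟶ B) (ψ : B ⟶ C)
    (hφ : φ.hom.FinitePresentation) (hφψ : (φ ≫ ψ).hom.FinitePresentation) :
    IsLocallyConstructible {s : Spec R | P (fibreMor (Spec.map ψ) (Spec.map φ) s)} := by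
  obtain ⟨R₀, B₀, C₀, φ₀, ψ₀, r, b, c, h1, h2, hc, hN, hf1, hf2⟩ := exists_model_rings φ ψ hφ hφψ
  haveI := hN
  haveI : AlgebraicGeometry.IsNoetherian (Spec R₀) := inferInstance
  haveI : LocallyOfFiniteType (Spec.map φ₀) := by
    rw [HasRingHomProperty.Spec_iff (P := @LocallyOfFiniteType)]; exact hf1
  haveI : LocallyOfFiniteType (Spec.map ψ₀ ≫ Spec.map φ₀) := by
    rw [← Spec.map_comp, HasRingHomProperty.Spec_iff (P := @LocallyOfFiniteType)]; exact hf2
  have s1 : IsPullback (Spec.map b) (Spec.map φ) (Spec.map φ₀) (Spec.map r) := (isPullback_SpecMap_of_isPushout _ _ _ _ h1).flip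
  have s2 : IsPullback (Spec.map c) (Spec.map ψ) (Spec.map ψ₀) (Spec.map b) := by
    refine IsPullback.of_bot ?_ (by rw [← Spec.map_comp, ← Spec.map_comp, hc]) s1
    rw [← Spec.map_comp, ← Spec.map_comp]
    exact (isPullback_SpecMap_of_isPushout _ _ _ _ h2).flip
  have h0 := isConstructible_mor_noetherian hP (Spec.map ψ₀) (Spec.map φ₀)
  have e : {s : Spec R | P (fibreMor (Spec.map ψ) (Spec.map φ) s)} =
      Spec.map r ⁻¹' {t | P (fibreMor (Spec.map ψ₀) (Spec.map φ₀) t)} :=
    Set.ext fun y => fibreMor_bc hP s1 s2 y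
  exact e ▸ ProConsLib.isLocallyConstructible_preimage _ h0.isLocallyConstructible

theorem isLocallyConstructible_mor_affine (hP : MorSpreads P) {X Y S : Scheme.{u}} (f : X ⟶ Y) (g : Y ⟶ S)
    [IsAffine X] [IsAffine Y] [IsAffine S] [LocallyOfFinitePresentation g] [LocallyOfFinitePresentation (f ≫ g)] :
    IsLocallyConstructible {s : S | P (fibreMor f g s)} := by
  have s1 : IsPullback Y.isoSpec.hom g (Spec.map g.appTop) S.isoSpec.hom :=
    IsPullback.of_horiz_isIso ⟨Scheme.isoSpec_hom_naturality g⟩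
  have s2 : IsPullback X.isoSpec.hom f (Spec.map f.appTop) Y.isoSpec.hom :=
    IsPullback.of_horiz_isIso ⟨Scheme.isoSpec_hom_naturality f⟩
  have h1 : g.appTop.hom.FinitePresentation :=
    (HasRingHomProperty.iff_of_isAffine (P := @LocallyOfFinitePresentation) (f := g)).mp ‹_›
  have h2 : (g.appTop ≫ f.appTop).hom.FinitePresentation := by
    rw [← Scheme.Hom.comp_appTop]
    exact (HasRingHomProperty.iff_of_isAffine (P := @LocallyOfFinitePresentation) (f := f ≫ g)).mp ‹_›
  have h := isLocallyConstructible_mor_spec hP g.appTop f.appTop h1 h2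
  have e : {s : S | P (fibreMor f g s)} =
      S.isoSpec.hom ⁻¹' {s | P (fibreMor (Spec.map f.appTop) (Spec.map g.appTop) s)} :=
    Set.ext fun y => fibreMor_bc hP s1 s2 y
  exact e ▸ ProConsLib.isLocallyConstructible_preimage _ h

end Groth.Agent.ConsFib
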