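import Groth.Agent.ConsFib.Props
import Groth.Agent.AlgSpLib.LocP
import Mathlib.AlgebraicGeometry.Morphisms.Separated

/-!
# Dominance and separatedness of the fibres of a morphism over a base
-/

universe u

open AlgebraicGeometry CategoryTheory CategoryTheory.Limits Topology Set

namespace Groth.Agent.ConsFib

variable {X Y S : Scheme.{u}} (f : X ⟶ Y) (g : Y ⟶ S)

/-- The map induced by `f` between the fibres over `s`. -/
noncomputable abbrev fibreMor (s : S) : (f ≫ g).fiber s ⟶ g.fiber s :=
  pullback.lift (pullback.fst (f ≫ g) (S.fromSpecResidueField s) ≫ f) (pullback.snd (f ≫ g) (S.fromSpecResidueField s))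
    ((Category.assoc _ _ _).trans pullback.condition)

theorem isPullback_fibreMor (s : S) :
    IsPullback ((f ≫ g).fiberι s) (fibreMor f g s) f (g.fiberι s) := by
  refine IsPullback.of_bot (v₂₁ := g.fiberToSpecResidueField s) (v₂₂ := g) (h₃₁ := S.fromSpecResidueField s) ?_
    (pullback.lift_fst _ _ _).symm (IsPullback.of_hasPullback g (S.fromSpecResidueField s))
  have e : fibreMor f g s ≫ g.fiberToSpecResidueField s = (f ≫ g).fiberToSpecResidueField s := pullback.lift_snd _ _ _
  rw [e]
  exact IsPullback.of_hasPullback (f ≫ g) (S.fromSpecResidueField s)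

theorem range_of_isPullback {P X Y Z : Scheme.{u}} {p : P ⟶ X} {q : P ⟶ Y} {a : X ⟶ Z} {b : Y ⟶ Z}
    (h : IsPullback p q a b) : Set.range p.base = a.base ⁻¹' Set.range b.base := by
  rw [← h.isoPullback_hom_fst, Scheme.Hom.comp_base, TopCat.coe_comp, Set.range_comp,
    Set.range_eq_univ.2 h.isoPullback.hom.surjective, Set.image_univ]
  exact Scheme.Pullback.range_fst a b

theorem isLocallyConstructible_isDominant [LocallyOfFinitePresentation g] [QuasiCompact g] [QuasiSeparated g]
    [LocallyOfFinitePresentation (f ≫ g)] [QuasiCompact (f ≫ g)] :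
    IsLocallyConstructible {s : S | IsDominant (fibreMor f g s)} := by
  have : LocallyOfFinitePresentation f := AlgSpLib.locallyOfFinitePresentation_of_comp f g ‹_› inferInstance
  have : QuasiCompact f := MorphismProperty.of_postcomp (W := @QuasiCompact) (W' := @QuasiSeparated) f g ‹_› ‹_›
  have himg : IsLocallyConstructible (Set.range f.base) := by
    simpa using f.isLocallyConstructible_image (IsLocallyConstructible.univ (X := X))
  have e : {s : S | IsDominant (fibreMor f g s)} =
      {s : S | univ ∩ g.base ⁻¹' {s} ⊆ closure (Set.range f.base ∩ g.base ⁻¹' {s})} := by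
    ext s
    have hL : ∀ z, g.fiberι s (fibreMor f g s z) = f ((f ≫ g).fiberι s z) := fun z =>
      (congrArg (fun h : (f ≫ g).fiber s ⟶ Y => h z) (isPullback_fibreMor f g s).w).symm
    have himg : g.fiberι s '' Set.range (fibreMor f g s) = Set.range f.base ∩ g.base ⁻¹' {s} := by
      ext y
      constructor
      · rintro ⟨_, ⟨z, rfl⟩, rfl⟩
        exact ⟨⟨_, (hL z).symm⟩, (g.range_fiberι s).le ⟨_, rfl⟩⟩
      · rintro ⟨⟨x, rfl⟩, hx⟩
        obtain ⟨z, hz⟩ : x ∈ Set.range ((f ≫ g).fiberι s) := by
          rw [(f ≫ g).range_fiberι s]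
          show (f ≫ g) x = s
          rw [Scheme.Hom.comp_apply]
          exact hx
        exact ⟨_, ⟨z, rfl⟩, (hL z).trans (congrArg (fun w => f w) hz)⟩
    have hcl : closure (Set.range (fibreMor f g s)) = g.fiberι s ⁻¹' closure (g.fiberι s '' Set.range (fibreMor f g s)) :=
      (g.fiberι s).isEmbedding.closure_eq_preimage_closure_image _
    constructor
    · intro h y hy
      obtain ⟨w, rfl⟩ := (g.range_fiberι s).ge hy.2
      have hw : w ∈ closure (Set.range (fibreMor f g s)) := h.denseRange w
      rw [hcl, himg] at hw
      exact hw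
    · intro h
      refine ⟨fun w => ?_⟩
      show w ∈ closure (Set.range (fibreMor f g s))
      rw [hcl, himg]
      exact h ⟨trivial, (g.range_fiberι s).le ⟨w, rfl⟩⟩
  exact e ▸ isLocallyConstructible_dense g himg IsLocallyConstructible.univ

theorem isLocallyConstructible_isSeparated [LocallyOfFinitePresentation g] [QuasiCompact g] [QuasiSeparated g]
    [LocallyOfFinitePresentation (f ≫ g)] [QuasiCompact (f ≫ g)] [QuasiSeparated (f ≫ g)] :
    IsLocallyConstructible {s : S | IsSeparated (fibreMor f g s)} := by
  have : LocallyOfFinitePresentation f := AlgSpLib.locallyOfFinitePresentation_of_comp f g ‹_› inferInstance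
  have : QuasiCompact f := MorphismProperty.of_postcomp (W := @QuasiCompact) (W' := @QuasiSeparated) f g ‹_› ‹_›
  have : QuasiSeparated f := QuasiSeparated.of_comp f g
  let h := pullback.fst f f ≫ f ≫ g
  have hΔ : LocallyOfFinitePresentation (pullback.diagonal f) := by
    refine AlgSpLib.locallyOfFinitePresentation_of_comp _ (pullback.fst f f) ?_ inferInstance
    rw [pullback.diagonal_fst]; infer_instance
  have hrange : IsLocallyConstructible (Set.range (pullback.diagonal f).base) := by
    simpa using (pullback.diagonal f).isLocallyConstructible_image (IsLocallyConstructible.univ (X := X))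
  have e : {s : S | IsSeparated (fibreMor f g s)} =
      {s : S | IsClosed (Subtype.val ⁻¹' Set.range (pullback.diagonal f).base : Set (Fib h s))} := by
    ext s
    have hP := isPullback_fibreMor f g s
    set L := fibreMor f g s
    let φ : pullback L L ⟶ pullback f f :=
      pullback.lift (pullback.fst L L ≫ (f ≫ g).fiberι s) (pullback.snd L L ≫ (f ≫ g).fiberι s) (by
        rw [Category.assoc, Category.assoc, hP.w, ← Category.assoc, pullback.condition, Category.assoc])
    have hsq : IsPullback φ (pullback.fst L L) (pullback.fst f f) ((f ≫ g).fiberι s) := by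
      have h1 : IsPullback (pullback.snd L L ≫ (f ≫ g).fiberι s) (pullback.fst L L) f (L ≫ g.fiberι s) :=
        (IsPullback.of_hasPullback L L).flip.paste_horiz hP
      refine IsPullback.of_right (h₁₁ := φ) (h₁₂ := pullback.snd f f) (v₁₃ := f) (h₂₂ := f) ?_ (pullback.lift_fst _ _ _)
        (IsPullback.of_hasPullback f f).flip
      rw [pullback.lift_snd, hP.w]
      exact h1
    haveI : IsPreimmersion φ := MorphismProperty.of_isPullback hsq.flip (inferInstance : IsPreimmersion ((f ≫ g).fiberι s))
    have hdiag : ∀ p, φ (pullback.diagonal L p) = pullback.diagonal f ((f ≫ g).fiberι s p) := by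
      have : pullback.diagonal L ≫ φ = (f ≫ g).fiberι s ≫ pullback.diagonal f := by
        apply pullback.hom_ext
        · rw [Category.assoc, pullback.lift_fst, ← Category.assoc, pullback.diagonal_fst, Category.id_comp,
            Category.assoc, pullback.diagonal_fst, Category.comp_id]
        · rw [Category.assoc, pullback.lift_snd, ← Category.assoc, pullback.diagonal_snd, Category.id_comp,
            Category.assoc, pullback.diagonal_snd, Category.comp_id]
      intro p
      exact congrArg (fun k : (f ≫ g).fiber s ⟶ pullback f f => k p) this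
    have hpre : φ ⁻¹' Set.range (pullback.diagonal f).base = Set.range (pullback.diagonal L).base := by
      ext z
      constructor
      · rintro ⟨x, hx⟩
        have hz : pullback.fst f f (φ z) = (f ≫ g).fiberι s (pullback.fst L L z) :=
          congrArg (fun k : pullback L L ⟶ X => k z) hsq.w
        have hx' : pullback.fst f f (φ z) = x := by
          have := congrArg (fun k : X ⟶ X => k x) (pullback.diagonal_fst f)
          exact (congrArg (fun w => pullback.fst f f w) hx.symm).trans this
        refine ⟨pullback.fst L L z, φ.isEmbedding.injective ?_⟩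
        rw [hdiag, ← hz, hx']
        exact hx
      · rintro ⟨p, rfl⟩
        exact ⟨_, (hdiag p).symm⟩
    have hrφ : Set.range φ.base = h.base ⁻¹' {s} := by
      rw [range_of_isPullback hsq, (f ≫ g).range_fiberι s]
      rfl
    let eφ : ↥(pullback L L) ≃ₜ Fib h s := φ.isEmbedding.toHomeomorph.trans (.setCongr hrφ)
    have he : eφ ⁻¹' (Subtype.val ⁻¹' Set.range (pullback.diagonal f).base) = Set.range (pullback.diagonal L).base :=
      hpre
    show IsSeparated L ↔ IsClosed _
    rw [← eφ.isClosed_preimage, he]
    exact ⟨fun hL => (pullback.diagonal L).isClosedEmbedding.isClosed_range,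
      fun hc => ⟨IsClosedImmersion.of_isPreimmersion _ hc⟩⟩
  exact e ▸ isLocallyConstructible_closed h hrange

end Groth.Agent.ConsFib
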