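import Groth.Agent.ConsFib.Basic
import Groth.Agent.FibConstr.Dim
import Groth.Agent.GrpSchField.ClosedImage

/-!
# Density, closedness and local closedness of constructible sets in the fibres
-/

universe u

open AlgebraicGeometry CategoryTheory CategoryTheory.Limits Topology TopologicalSpace Set

namespace Groth.Agent.ConsFib

/-- `B` lies in the closure of `A`. -/
abbrev PDense (F : Type u) [TopologicalSpace F] (A B : Set F) : Prop := B ⊆ closure A

/-- `A` is closed. -/
abbrev PClosed (F : Type u) [TopologicalSpace F] (A _B : Set F) : Prop := IsClosed A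

/-- The boundary part of `A` is closed, i.e. `A` is locally closed. -/
abbrev PLoc (F : Type u) [TopologicalSpace F] (A _B : Set F) : Prop := IsClosed (closure A \ A)

theorem isLocallyClosed_iff {F : Type u} [TopologicalSpace F] (A : Set F) :
    IsLocallyClosed A ↔ IsClosed (closure A \ A) := by
  rw [isLocallyClosed_iff_isOpen_coborder, coborder, isOpen_compl_iff]

/-- A constructible set contains a neighbourhood of the generic point or avoids one. -/
theorem exists_dichotomy {S : Type u} [TopologicalSpace S] [QuasiSober S] [IrreducibleSpace S] {T : Set S}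
    (hT : IsConstructible T) :
    ∃ O : Set S, IsOpen O ∧ genericPoint S ∈ O ∧ (O ⊆ T ∨ Disjoint O T) := by
  have hcl : ∀ O : Set S, O ∩ closure {genericPoint S} = O := fun O => by
    rw [genericPoint_closure, inter_univ]
  by_cases h : genericPoint S ∈ T
  · obtain ⟨O, h1, h2, h3⟩ := (GrpSchField.exists_open_of_mem_constructible hT _).1 h
    exact ⟨O, h1, h2, Or.inl (hcl O ▸ h3)⟩
  · obtain ⟨O, h1, h2, h3⟩ := (GrpSchField.exists_open_of_mem_constructible hT _).2 h
    exact ⟨O, h1, h2, Or.inr (disjoint_left.2 fun y hy => (hcl O ▸ h3) hy)⟩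

section Spread

variable {X S : Scheme.{u}} (f : X ⟶ S) [IrreducibleSpace S] [IsNoetherian S] [LocallyOfFiniteType f] [QuasiCompact f]

include f in
theorem isNoetherian_source : IsNoetherian X :=
  { __ := LocallyOfFiniteType.isLocallyNoetherian f
    __ := QuasiCompact.compactSpace_of_compactSpace f }

/-- Over a nonempty open the closure of a constructible set restricts to the closure in the fibres. -/
theorem exists_closure_fib {A : Set X} (hA : IsConstructible A) :
    ∃ V : S.Opens, (V : Set S).Nonempty ∧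
      ∀ x, f x ∈ V → x ∈ closure A → x ∈ closure (A ∩ f.base ⁻¹' {f x}) := by
  haveI := isNoetherian_source f
  let W₀ : Set X := ⋃₀ {O | IsOpen O ∧ O ∩ closure A ⊆ A}
  have hW₀o : IsOpen W₀ := isOpen_sUnion fun O hO => hO.1
  have hW₀A : W₀ ∩ closure A ⊆ A := fun y ⟨⟨O, hO, hyO⟩, hy⟩ => hO.2 ⟨hyO, hy⟩
  let I := Scheme.IdealSheafData.vanishingIdeal (⟨closure A, isClosed_closure⟩ : Closeds X)
  let j := I.subschemeι
  have hrj : Set.range j = closure A := by
    rw [Scheme.IdealSheafData.range_subschemeι, Scheme.IdealSheafData.coe_support_vanishingIdeal]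
    rfl
  have hη : IsNowhereDense (((j ≫ f).fiberι (genericPoint S)) ⁻¹' (j ⁻¹' W₀ᶜ)) := by
    rw [FibreND.isNowhereDense_fiber_iff _ (hW₀o.isClosed_compl.preimage j.continuous)]
    intro w hwZ hwy W hW hwW
    -- a generic point of a component through `w`
    let T := irreducibleComponent w
    obtain ⟨c, hc⟩ : ∃ c, IsGenericPoint c T :=
      QuasiSober.sober isIrreducible_irreducibleComponent isClosed_irreducibleComponent
    have hcw : c ⤳ w := hc.specializes mem_irreducibleComponent
    refine ⟨c, hcw.mem_open hW hwW, ?_, ?_⟩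
    · have h1 : (j ≫ f) c ⤳ genericPoint S := hwy ▸ hcw.map (j ≫ f).continuous
      exact (h1.antisymm (genericPoint_specializes _)).eq
    · haveI : IsNoetherian I.subscheme :=
        { __ := LocallyOfFiniteType.isLocallyNoetherian j
          __ := QuasiCompact.compactSpace_of_compactSpace j }
      let rest : Set I.subscheme := ⋃₀ (irreducibleComponents I.subscheme \ {T})
      have hrest : IsClosed rest := by
        have hfin : (irreducibleComponents I.subscheme).Finite := NoetherianSpace.finite_irreducibleComponents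
        show IsClosed (⋃₀ _)
        rw [sUnion_eq_biUnion]
        refine (hfin.sdiff (t := {T})).isClosed_biUnion ?_
        exact fun K hK => isClosed_of_mem_irreducibleComponents K hK.1
      have hcr : c ∉ rest := by
        rintro ⟨K, ⟨hK, hKT⟩, hcK⟩
        refine hKT ?_
        have hTK : T ⊆ K := hc ▸ (isClosed_of_mem_irreducibleComponents K hK).closure_subset_iff.2
          (singleton_subset_iff.2 hcK)
        exact ((irreducibleComponent_mem_irreducibleComponents w).2 hK.1 hTK).antisymm hTK
      obtain ⟨O₁, hO₁, hO₁'⟩ := j.isClosedEmbedding.isEmbedding.isOpen_iff.1 hrest.isOpen_compl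
      have hO₁c : O₁ ∩ closure A ⊆ closure {j c} := by
        rintro y ⟨hy1, hy2⟩
        obtain ⟨z, rfl⟩ := hrj.ge hy2
        have hz : z ∉ rest := hO₁'.le hy1
        have hzT : z ∈ T := by
          by_contra hz'
          refine hz ⟨irreducibleComponent z, ⟨irreducibleComponent_mem_irreducibleComponents z, fun h => ?_⟩,
            mem_irreducibleComponent⟩
          exact hz' (h ▸ mem_irreducibleComponent)
        exact ((hc.specializes hzT).map j.continuous).mem_closure
      have hcO₁ : j c ∈ O₁ := hO₁'.ge hcr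
      have hcA : j c ∈ A := by
        by_contra hn
        obtain ⟨O₂, h1, h2, h3⟩ := (GrpSchField.exists_open_of_mem_constructible hA _).2 hn
        obtain ⟨a, ⟨ha1, ha2⟩, haA⟩ := mem_closure_iff.1 (hrj.le ⟨c, rfl⟩) (O₁ ∩ O₂) (hO₁.inter h1) ⟨hcO₁, h2⟩
        exact h3 ⟨ha2, hO₁c ⟨ha1, subset_closure haA⟩⟩ haA
      obtain ⟨O₃, h1, h2, h3⟩ := (GrpSchField.exists_open_of_mem_constructible hA _).1 hcA
      intro hcW
      exact hcW ⟨O₁ ∩ O₃, ⟨hO₁.inter h1, fun y hy => h3 ⟨hy.1.2, hO₁c ⟨hy.1.1, hy.2⟩⟩⟩, hcO₁, h2⟩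
  obtain ⟨V, hV, hVs⟩ := FibreND.exists_nowhereDense (j ≫ f) (hW₀o.isClosed_compl.preimage j.continuous) hη
  refine ⟨V, hV, fun x hxV hx => ?_⟩
  by_cases hxW : x ∈ W₀
  · exact subset_closure ⟨hW₀A ⟨hxW, hx⟩, rfl⟩
  obtain ⟨w, rfl⟩ := hrj.ge hx
  rw [mem_closure_iff]
  intro O hO hwO
  obtain ⟨w', hw'O, hw'y, hw'Z⟩ := (FibreND.isNowhereDense_fiber_iff _
    (hW₀o.isClosed_compl.preimage j.continuous) _).1 (hVs _ hxV) w hxW rfl (j ⁻¹' O) (hO.preimage j.continuous) hwO
  exact ⟨j w', hw'O, hW₀A ⟨not_not.1 hw'Z, hrj.le ⟨w', rfl⟩⟩, hw'y⟩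

/-- Over a nonempty open, a constructible subset is empty in all fibres or in none. -/
theorem exists_empty_fib {E : Set X} (hE : IsConstructible E) :
    ∃ V : S.Opens, (V : Set S).Nonempty ∧ ((∀ x ∈ E, f x ∉ V) ∨ ∀ s ∈ V, ∃ x ∈ E, f x = s) := by
  haveI := isNoetherian_source f
  obtain ⟨O, hO, hη, h⟩ := exists_dichotomy (f.isLocallyConstructible_image hE.isLocallyConstructible).isConstructible
  refine ⟨⟨O, hO⟩, ⟨_, hη⟩, h.symm.imp (fun h x hx hxO => disjoint_left.1 h hxO (mem_image_of_mem _ hx)) fun h s hs => ?_⟩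
  obtain ⟨x, hx, hxs⟩ := h hs
  exact ⟨x, hx, hxs⟩

omit [IrreducibleSpace S] [AlgebraicGeometry.IsNoetherian S] [LocallyOfFiniteType f] [QuasiCompact f] in
theorem mem_closure_fib_iff {A : Set X} {s : S} (z : Fib f s) :
    z ∈ closure (Subtype.val ⁻¹' A : Set (Fib f s)) ↔ z.1 ∈ closure (A ∩ f.base ⁻¹' {s}) := by
  rw [closure_subtype, Subtype.image_preimage_coe, inter_comm]

/-- Over a nonempty open, closure commutes with passage to the fibres. -/
theorem exists_closure_eq {A : Set X} (hA : IsConstructible A) :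
    ∃ V : S.Opens, (V : Set S).Nonempty ∧ ∀ s ∈ V,
      closure (Subtype.val ⁻¹' A : Set (Fib f s)) = Subtype.val ⁻¹' closure A := by
  obtain ⟨V, hV, h⟩ := exists_closure_fib f hA
  refine ⟨V, hV, fun s hs => Set.ext fun z => ?_⟩
  rw [mem_closure_fib_iff]
  refine ⟨fun hz => closure_mono inter_subset_left hz, fun hz => ?_⟩
  have hzs : f z.1 = s := z.2
  have := h z.1 (hzs.symm ▸ hs) hz
  rwa [hzs] at this

theorem inter_nonempty {V W : S.Opens} (hV : (V : Set S).Nonempty) (hW : (W : Set S).Nonempty) :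
    ((V ⊓ W : S.Opens) : Set S).Nonempty :=
  nonempty_preirreducible_inter V.2 W.2 hV hW

theorem spread_dense (A B : Set X) (hA : IsConstructible A) (hB : IsConstructible B) :
    ∃ V : S.Opens, (V : Set S).Nonempty ∧
      ((∀ s ∈ V, fibP PDense f A B s) ∨ ∀ s ∈ V, ¬ fibP PDense f A B s) := by
  haveI := isNoetherian_source f
  obtain ⟨V, hV, hcl⟩ := exists_closure_eq f hA
  obtain ⟨W, hW, h⟩ := exists_empty_fib f (hB.sdiff (isConstructible_of_isClosed (isClosed_closure (s := A))))
  refine ⟨V ⊓ W, inter_nonempty hV hW, h.imp (fun h s hs z hz => ?_) fun h s hs hd => ?_⟩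
  · rw [hcl s hs.1]
    by_contra hn
    exact h z.1 ⟨hz, hn⟩ ((z.2 : f z.1 = s).symm ▸ hs.2)
  · obtain ⟨x, ⟨hxB, hxA⟩, hxs⟩ := h s hs.2
    have := hd (show (⟨x, hxs⟩ : Fib f s) ∈ Subtype.val ⁻¹' B from hxB)
    rw [hcl s hs.1] at this
    exact hxA this
where
  isConstructible_of_isClosed {Y : Type u} [TopologicalSpace Y] [NoetherianSpace Y] {C : Set Y} (hC : IsClosed C) :
      IsConstructible C :=
    compl_compl C ▸ (IsRetrocompact.isConstructible hC.isOpen_compl fun _ _ _ => NoetherianSpace.isCompact _).compl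

theorem spread_closed (A B : Set X) (hA : IsConstructible A) :
    ∃ V : S.Opens, (V : Set S).Nonempty ∧
      ((∀ s ∈ V, fibP PClosed f A B s) ∨ ∀ s ∈ V, ¬ fibP PClosed f A B s) := by
  haveI := isNoetherian_source f
  obtain ⟨V, hV, hcl⟩ := exists_closure_eq f hA
  obtain ⟨W, hW, h⟩ := exists_empty_fib f ((spread_dense.isConstructible_of_isClosed (isClosed_closure (s := A))).sdiff hA)
  refine ⟨V ⊓ W, inter_nonempty hV hW, h.imp (fun h s hs => ?_) fun h s hs hd => ?_⟩
  · refine closure_subset_iff_isClosed.1 fun z hz => ?_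
    rw [hcl s hs.1] at hz
    by_contra hn
    exact h z.1 ⟨hz, hn⟩ ((z.2 : f z.1 = s).symm ▸ hs.2)
  · obtain ⟨x, ⟨hxC, hxA⟩, hxs⟩ := h s hs.2
    have : (⟨x, hxs⟩ : Fib f s) ∈ closure (Subtype.val ⁻¹' A : Set (Fib f s)) := by
      rw [hcl s hs.1]; exact hxC
    exact hxA (hd.closure_subset this)

theorem spread_loc (A B : Set X) (hA : IsConstructible A) :
    ∃ V : S.Opens, (V : Set S).Nonempty ∧
      ((∀ s ∈ V, fibP PLoc f A B s) ∨ ∀ s ∈ V, ¬ fibP PLoc f A B s) := by
  haveI := isNoetherian_source f
  obtain ⟨V, hV, hcl⟩ := exists_closure_eq f hA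
  obtain ⟨W, hW, h⟩ := spread_closed f (closure A \ A) B
    ((spread_dense.isConstructible_of_isClosed (isClosed_closure (s := A))).sdiff hA)
  have e : ∀ s ∈ V, fibP PLoc f A B s ↔ fibP PClosed f (closure A \ A) B s := fun s hs => by
    show IsClosed (closure _ \ _) ↔ IsClosed _
    rw [hcl s hs, preimage_diff]
  exact ⟨V ⊓ W, inter_nonempty hV hW,
    h.imp (fun h s hs => (e s hs.1).2 (h s hs.2)) fun h s hs hd => h s hs.2 ((e s hs.1).1 hd)⟩

end Spread

theorem fibProp_dense : FibProp.{u} PDense where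
  preimage q hc ho hs A B := by
    unfold PDense
    rw [← ho.preimage_closure_eq_closure_preimage hc, hs.preimage_subset_preimage_iff]
  embed q hq A B := by
    unfold PDense
    rw [hq.closure_image_eq, image_subset_image_iff hq.injective]
  isLocal U hU hcov A B := by
    have e : ∀ i, closure (Subtype.val ⁻¹' A : Set (U i)) = Subtype.val ⁻¹' closure A := fun i =>
      ((hU i).isOpenMap_subtype_val.preimage_closure_eq_closure_preimage continuous_subtype_val A).symm
    refine ⟨fun h i z hz => by rw [e i]; exact h hz, fun h x hx => ?_⟩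
    obtain ⟨i, hi⟩ := mem_iUnion.1 (hcov.ge (mem_univ x))
    have := h i (show (⟨x, hi⟩ : U i) ∈ Subtype.val ⁻¹' B from hx)
    rwa [e i] at this
  spread f _ _ _ _ A B hA hB := spread_dense f A B hA hB

theorem isClosed_iff_cover {F : Type u} [TopologicalSpace F] {ι : Type u} (U : ι → Set F) (hU : ∀ i, IsOpen (U i))
    (hcov : ⋃ i, U i = univ) (A : Set F) : IsClosed A ↔ ∀ i, IsClosed (Subtype.val ⁻¹' A : Set (U i)) := by
  refine ⟨fun h i => h.preimage continuous_subtype_val, fun h => closure_subset_iff_isClosed.1 fun x hx => ?_⟩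
  obtain ⟨i, hi⟩ := mem_iUnion.1 (hcov.ge (mem_univ x))
  have : (⟨x, hi⟩ : U i) ∈ closure (Subtype.val ⁻¹' A : Set (U i)) := by
    rw [← (hU i).isOpenMap_subtype_val.preimage_closure_eq_closure_preimage continuous_subtype_val A]
    exact hx
  exact (h i).closure_subset this

theorem fibProp_closed : FibProp.{u} PClosed where
  preimage q hc ho hs A B := (ho.isQuotientMap hc hs).isClosed_preimage
  embed q hq A B := hq.isClosed_iff_image_isClosed.symm
  isLocal U hU hcov A B := isClosed_iff_cover U hU hcov A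
  spread f _ _ _ _ A B hA _ := spread_closed f A B hA

theorem fibProp_loc : FibProp.{u} PLoc where
  preimage q hc ho hs A B := by
    show IsClosed _ ↔ IsClosed _
    rw [← ho.preimage_closure_eq_closure_preimage hc, ← preimage_diff]
    exact (ho.isQuotientMap hc hs).isClosed_preimage
  embed q hq A B := by
    show IsClosed _ ↔ IsClosed _
    rw [hq.closure_image_eq, ← image_diff hq.injective]
    exact hq.isClosed_iff_image_isClosed.symm
  isLocal U hU hcov A B := by
    refine (isClosed_iff_cover U hU hcov _).trans (forall_congr' fun i => ?_)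
    show IsClosed _ ↔ IsClosed _
    rw [← (hU i).isOpenMap_subtype_val.preimage_closure_eq_closure_preimage continuous_subtype_val A, preimage_diff]
  spread f _ _ _ _ A B hA _ := spread_loc f A B hA

/-- Density in the fibres is a locally constructible condition. -/
theorem isLocallyConstructible_dense {X S : Scheme.{u}} (f : X ⟶ S) [LocallyOfFinitePresentation f]
    [QuasiCompact f] {A B : Set X} (hA : IsLocallyConstructible A) (hB : IsLocallyConstructible B) :
    IsLocallyConstructible {s : S | B ∩ f.base ⁻¹' {s} ⊆ closure (A ∩ f.base ⁻¹' {s})} := by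
  have e : {s : S | B ∩ f.base ⁻¹' {s} ⊆ closure (A ∩ f.base ⁻¹' {s})} = {s | fibP PDense f A B s} := by
    ext s
    refine ⟨fun h z hz => (mem_closure_fib_iff f z).2 (h ⟨hz, z.2⟩), fun h x hx => ?_⟩
    exact (mem_closure_fib_iff f ⟨x, hx.2⟩).1 (h (show (⟨x, hx.2⟩ : Fib f s) ∈ Subtype.val ⁻¹' B from hx.1))
  exact e ▸ isLocallyConstructible fibProp_dense f hA hB

/-- Closedness, openness and local closedness in the fibres are locally constructible conditions. -/
theorem isLocallyConstructible_closed {X S : Scheme.{u}} (f : X ⟶ S) [LocallyOfFinitePresentation f]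
    [QuasiCompact f] {A : Set X} (hA : IsLocallyConstructible A) :
    IsLocallyConstructible {s : S | IsClosed (Subtype.val ⁻¹' A : Set (Fib f s))} :=
  isLocallyConstructible fibProp_closed f hA hA

theorem isLocallyConstructible_open {X S : Scheme.{u}} (f : X ⟶ S) [LocallyOfFinitePresentation f]
    [QuasiCompact f] {A : Set X} (hA : IsLocallyConstructible A) :
    IsLocallyConstructible {s : S | IsOpen (Subtype.val ⁻¹' A : Set (Fib f s))} := by
  have h := isLocallyConstructible_closed f (FibConstr.isLocallyConstructible_compl hA)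
  simpa only [preimage_compl, isClosed_compl_iff] using h

theorem isLocallyConstructible_locallyClosed {X S : Scheme.{u}} (f : X ⟶ S) [LocallyOfFinitePresentation f]
    [QuasiCompact f] {A : Set X} (hA : IsLocallyConstructible A) :
    IsLocallyConstructible {s : S | IsLocallyClosed (Subtype.val ⁻¹' A : Set (Fib f s))} := by
  have e : {s : S | IsLocallyClosed (Subtype.val ⁻¹' A : Set (Fib f s))} = {s | fibP PLoc f A A s} :=
    Set.ext fun s => isLocallyClosed_iff _
  exact e ▸ isLocallyConstructible fibProp_loc f hA hA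

end Groth.Agent.ConsFib
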